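import Groth.Agent.GrpSchLib.AffineHopf
import Groth.Agent.GrpSchLib.MultTypeBC
import Groth.Agent.MultTypeLib.CoverType
import Groth.Prelude.Def_TwC

/-!
# From group schemes of multiplicative type to Hopf algebras of multiplicative type
-/

universe u

open CategoryTheory CategoryTheory.Limits MonoidalCategory CartesianMonoidalCategory MonObj AlgebraicGeometry
open TensorProduct
open Groth.Agent.GrpSchLib.AffineHopf

set_option backward.isDefEq.respectTransparency false

namespace Groth.Agent.MultTransp18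

/-- Locally diagonalisable for the fpqc topology, any type. -/
abbrev LocDiag {S : Scheme.{u}} (H : Over S) [GrpObj H] : Prop :=
  TwC.Locally S TwC.Topology.fpqc (fun S' f => ∃ (M : Type) (_ : AddCommGroup M),
    Nonempty (Grp.mk (Red.bc f H) ≅ Grp.mk (Red.DS S' M)))

theorem locDiag_of_multTypeFT {S : Scheme.{u}} {H : Over S} [GrpObj H] (hH : SGA3x.IsMultTypeFT H) :
    LocDiag H := by
  obtain ⟨S', f, hf, hs, hqc, hloc⟩ := hH
  refine ⟨S', f, hf, hs, hqc, fun s' => ?_⟩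
  obtain ⟨U, hU, M, iM, -, e⟩ := hloc s'
  exact ⟨U, hU, M, iM, e⟩

/-- An isomorphism of affine group schemes gives an isomorphism of Hopf algebras. -/
theorem nonempty_bialgEquiv {R A B : Type u} [CommRing R] [CommRing A] [CommRing B] [HopfAlgebra R A]
    [HopfAlgebra R B] (e : Grp.mk (sp R A) ≅ Grp.mk (sp R B)) : Nonempty (B ≃ₐc[R] A) := by
  haveI : IsMonHom e.hom.hom.hom := e.hom.hom.isMonHom_hom
  haveI : IsMonHom e.inv.hom.hom := e.inv.hom.isMonHom_hom
  obtain ⟨f, hf⟩ := exists_bialgHom e.hom.hom.hom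
  obtain ⟨g, hg⟩ := exists_bialgHom e.inv.hom.hom
  have h1 : ∀ a : A, f (g a) = a := by
    have := congrArg (fun m => m.hom.hom) e.hom_inv_id
    simp only [Grp.comp_hom_hom, hf, hg, spMap_comp] at this
    intro a
    exact DFunLike.congr_fun (spMap_injective (this.trans (spMap_id (R := R) (A := A)).symm)) a
  have h2 : ∀ b : B, g (f b) = b := by
    have := congrArg (fun m => m.hom.hom) e.inv_hom_id
    simp only [Grp.comp_hom_hom, hf, hg, spMap_comp] at this
    intro b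
    exact DFunLike.congr_fun (spMap_injective (this.trans (spMap_id (R := R) (A := B)).symm)) b
  refine ⟨BialgEquiv.ofAlgEquiv (AlgEquiv.ofAlgHom (f : B →ₐ[R] A) (g : A →ₐ[R] B) (AlgHom.ext h1)
    (AlgHom.ext h2)) ?_ ?_⟩
  · exact AlgHom.ext fun b => CoalgHomClass.counit_comp_apply f b
  · exact AlgHom.ext fun b => CoalgHomClass.map_comp_comul_apply f b

/-- Lifting the character group to the universe of the base. -/
noncomputable def uliftBialgEquiv (S : Type u) [CommRing S] (N : Type) [CommGroup N] :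
    MonoidAlgebra S N ≃ₐc[S] MonoidAlgebra S (ULift.{u} N) :=
  BialgEquiv.ofAlgEquiv (MonoidAlgebra.domCongr S S (MulEquiv.ulift.symm : N ≃* ULift.{u} N))
    (MonoidAlgebra.algHom_ext (fun m => by simp) (by ext))
    (MonoidAlgebra.algHom_ext (fun m => by simp) (by ext))

/-- A locally diagonalisable affine group over an affine base has a Hopf algebra of multiplicative type. -/
theorem isMultType_of_locDiag {R A : Type u} [CommRing R] [CommRing A] [HopfAlgebra R A]
    {H : Over (Spec (CommRingCat.of R))} [GrpObj H] (e : Grp.mk (sp R A) ≅ Grp.mk H) (hH : LocDiag H) :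
    SGA3b.IsMultType R A := by
  classical
  obtain ⟨S', f, hflat, hsurj, hqc, hloc⟩ := hH
  choose O hO M hM hiso using hloc
  obtain ⟨W, hWc, hW⟩ := hqc ⊤ (isAffineOpen_top _)
  have hex : ∀ w : W, ∃ B : S'.Opens, IsAffineOpen B ∧ (w : S') ∈ B ∧ B ≤ O w := fun w => by
    obtain ⟨B, hB, hwB, hBle⟩ := exists_isAffineOpen_mem_and_subset (hO (w : S'))
    exact ⟨B, hB, hwB, hBle⟩
  choose B hBa hwB hBO using hex
  obtain ⟨t, ht⟩ := hWc.elim_finite_subcover (fun w => (B w : Set S')) (fun w => (B w).2)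
    fun w hw => Set.mem_iUnion.mpr ⟨⟨w, hw⟩, hwB _⟩
  let φ : ∀ w : t, CommRingCat.of R ⟶ Γ(S', B w.1) := fun w => Spec.preimage ((hBa w.1).fromSpec ≫ f)
  have hφ : ∀ w : t, Spec.map (φ w) = (hBa w.1).fromSpec ≫ f := fun w => Spec.map_preimage _
  letI : ∀ w : t, Algebra R Γ(S', B w.1) := fun w => (φ w).hom.toAlgebra
  haveI : ∀ w : t, Module.Flat R Γ(S', B w.1) := fun w => by
    haveI : Flat (Spec.map (φ w)) := hφ w ▸ inferInstance
    exact (HasRingHomProperty.Spec_iff (P := @Flat)).mp this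
  refine MultTypeLib.isMultType_of_flatCover (fun w : t => (Γ(S', B w.1) : Type u)) (fun p hp => ?_) fun w => ?_
  · have : (⟨p, hp⟩ : PrimeSpectrum R) ∈ f.base '' (W : Set S') := by rw [hW]; trivial
    obtain ⟨y, hy, hyp⟩ := this
    obtain ⟨w, hw, hyw⟩ := Set.mem_iUnion₂.mp (ht hy)
    have hyr : y ∈ Set.range (hBa w).fromSpec.base := by rw [(hBa w).range_fromSpec]; exact hyw
    obtain ⟨q, hq⟩ := hyr
    refine ⟨⟨w, hw⟩, q.asIdeal, q.2, ?_⟩
    have h1 := congrArg (fun m => m.base q) (hφ ⟨w, hw⟩)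
    have h2 : (Spec.map (φ ⟨w, hw⟩)).base q = ⟨p, hp⟩ := by
      rw [h1, ← hyp, ← hq]; rfl
    exact congrArg PrimeSpectrum.asIdeal h2
  · obtain ⟨i⟩ := hiso (w.1 : S')
    let Sw : Type u := Γ(S', B w.1)
    let g : Spec (CommRingCat.of Sw) ⟶ (O (w.1 : S') : Scheme.{u}) :=
      IsOpenImmersion.lift (O (w.1 : S')).ι (hBa w.1).fromSpec (by
        rw [Scheme.Opens.range_ι]; exact (hBa w.1).range_fromSpec.trans_subset (hBO w.1))
    have hg : Spec.map (CommRingCat.ofHom (algebraMap R Sw)) = g ≫ (O (w.1 : S')).ι ≫ f := by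
      rw [IsOpenImmersion.lift_fac_assoc]
      exact hφ w
    obtain ⟨e1⟩ := nonempty_bc_sp (R := R) Sw A
    obtain ⟨e2⟩ := GrpSchLib.MultTypeBC.bc_iso (Spec.map (CommRingCat.ofHom (algebraMap R Sw))) e
    obtain ⟨e3⟩ := GrpSchLib.MultTypeBC.bc_congr hg H
    obtain ⟨e4⟩ := GrpSchLib.MultTypeBC.bc_bc g ((O (w.1 : S')).ι ≫ f) H
    obtain ⟨e5⟩ := GrpSchLib.MultTypeBC.bc_iso g i
    obtain ⟨e6⟩ := GrpSchLib.MultTypeBC.bc_DS g (M (w.1 : S'))
    obtain ⟨e7⟩ := nonempty_DS_iso Sw (M (w.1 : S'))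
    obtain ⟨b⟩ := nonempty_bialgEquiv (e1.symm ≪≫ e2 ≪≫ e3 ≪≫ e4.symm ≪≫ e5 ≪≫ e6 ≪≫ e7.symm)
    exact ⟨ULift.{u} (Multiplicative (M (w.1 : S'))), inferInstance,
      ⟨b.symm.trans (uliftBialgEquiv Sw (Multiplicative (M (w.1 : S'))))⟩⟩

end Groth.Agent.MultTransp18
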