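import Groth.Agent.MultTransp18.Bridge
import Groth.Agent.MultTypeLib.Mono
import Groth.Agent.GrpSchLib.MultTypeLft
import Groth.Agent.TransLib.MultEssFree
import Groth.Agent.FpqcDescLib.Closed
import Groth.Agent.S12442
import Mathlib.AlgebraicGeometry.Morphisms.LocalFlatDescent

/-!
# Monomorphisms of groups of multiplicative type into affine groups are closed immersions
-/

universe u

open CategoryTheory CategoryTheory.Limits MonoidalCategory CartesianMonoidalCategory MonObj AlgebraicGeometry
open Groth.Agent.GrpSchLib.AffineHopf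

set_option backward.isDefEq.respectTransparency false
set_option linter.style.haveILetI false

namespace Groth.Agent.MultTransp18

theorem lfp_diag (M : Type) [AddCommGroup M] [AddGroup.FG M] :
    LocallyOfFinitePresentation (Red.diag (ULift.{u} ℤ) M).hom := by
  haveI : AddMonoid.FG M := AddGroup.fg_iff_addMonoid_fg.mp ‹_›
  haveI : Monoid.FG (Multiplicative M) := Monoid.fg_of_addMonoid_fg
  refine (HasRingHomProperty.Spec_iff (P := @LocallyOfFinitePresentation)).mpr ?_
  haveI : IsNoetherianRing (ULift.{u} ℤ) := isNoetherianRing_of_ringEquiv ℤ ULift.ringEquiv.symm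
  haveI : Algebra.FiniteType (ULift.{u} ℤ) (MonoidAlgebra (ULift.{u} ℤ) (Multiplicative M)) := inferInstance
  exact RingHom.finitePresentation_algebraMap.mpr (Algebra.FinitePresentation.of_finiteType.mp ‹_›)

theorem lfp_DS (T : Scheme.{u}) (M : Type) [AddCommGroup M] [AddGroup.FG M] :
    LocallyOfFinitePresentation (Red.DS T M).hom :=
  haveI := lfp_diag.{u} M
  inferInstanceAs (LocallyOfFinitePresentation (pullback.snd (Red.diag (ULift.{u} ℤ) M).hom _))

/-- Groups of multiplicative type and of finite type are of finite presentation. -/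
theorem lfp_multTypeFT {S : Scheme.{u}} {H : Over S} [GrpObj H] (hH : SGA3x.IsMultTypeFT H) :
    LocallyOfFinitePresentation H.hom := by
  obtain ⟨S', f, hflat, hsurj, hqc, hloc⟩ := hH
  choose O hO M hM hfg hiso using hloc
  have hcov : FpqcDescLib.Covers f :=
    FpqcDescLib.covers_of_hcov f ⟨S', f, 𝟙 _, Category.id_comp _, hsurj, hflat, hqc⟩
  refine hcov.descends @LocallyOfFinitePresentation H.hom (pullback.snd H.hom f) (pullback.fst H.hom f)
    (IsPullback.of_hasPullback H.hom f).flip ?_
  refine IsZariskiLocalAtTarget.of_forall_exists_morphismRestrict fun s' => ⟨O s', hO s', ?_⟩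
  obtain ⟨i⟩ := hiso s'
  haveI := hfg s'
  haveI := lfp_DS (O s' : Scheme.{u}) (M s')
  have H1 : IsPullback ((pullback.snd H.hom f ⁻¹ᵁ O s').ι ≫ pullback.fst H.hom f)
      (pullback.snd H.hom f ∣_ O s') H.hom ((O s').ι ≫ f) :=
    (isPullback_morphismRestrict _ _).flip.paste_horiz (IsPullback.of_hasPullback H.hom f)
  rw [← H1.isoPullback_hom_snd]
  haveI : IsIso i.hom.hom.hom.left :=
    ⟨i.inv.hom.hom.left, congrArg (fun h => h.hom.hom.left) i.hom_inv_id,
      congrArg (fun h => h.hom.hom.left) i.inv_hom_id⟩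
  haveI : LocallyOfFinitePresentation (pullback.snd H.hom ((O s').ι ≫ f)) := by
    have hw : i.hom.hom.hom.left ≫ (Red.DS (O s' : Scheme.{u}) (M s')).hom = pullback.snd H.hom ((O s').ι ≫ f) :=
      Over.w i.hom.hom.hom
    rw [← hw]
    infer_instance
  infer_instance

theorem locDiag_bc {S T : Scheme.{u}} (g : T ⟶ S) {H : Over S} [GrpObj H] (hH : SGA3x.IsMultTypeFT H) :
    LocDiag (Red.bc g H) :=
  locDiag_of_multTypeFT (GrpSchLib.MultTypeBC.isMultTypeFT_bc g hH)

theorem isClosedImmersion_of_mono_affine {R : Type u} [CommRing R] {H G : Over (Spec (CommRingCat.of R))}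
    [GrpObj H] [GrpObj G] [IsAffine H.left] [IsAffine G.left] (hH : LocDiag H) (i : H ⟶ G) [IsMonHom i] [Mono i] :
    IsClosedImmersion i.left := by
  obtain ⟨A, _, _, ⟨eH⟩⟩ := exists_hopf H
  obtain ⟨C, _, _, ⟨eG⟩⟩ := exists_hopf G
  haveI : IsMonHom eH.hom.hom.hom := eH.hom.hom.isMonHom_hom
  haveI : IsMonHom eG.inv.hom.hom := eG.inv.hom.isMonHom_hom
  haveI : IsIso eH.hom.hom.hom :=
    ⟨eH.inv.hom.hom, congrArg (fun m => m.hom.hom) eH.hom_inv_id, congrArg (fun m => m.hom.hom) eH.inv_hom_id⟩
  haveI : IsIso eG.inv.hom.hom :=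
    ⟨eG.hom.hom.hom, congrArg (fun m => m.hom.hom) eG.inv_hom_id, congrArg (fun m => m.hom.hom) eG.hom_inv_id⟩
  obtain ⟨φ, hφ⟩ := exists_bialgHom (eH.hom.hom.hom ≫ i ≫ eG.inv.hom.hom)
  haveI : Mono (spMap (φ : C →ₐ[R] A)) := hφ ▸ inferInstance
  have hsurj : Function.Surjective φ := MultTypeLib.surjective_of_mono (isMultType_of_locDiag eH hH) φ
    fun T _ _ x y hxy => spMap_injective ((cancel_mono (spMap (φ : C →ₐ[R] A))).mp (by
      rw [spMap_comp, spMap_comp]; exact congrArg spMap hxy))
  have hci : IsClosedImmersion (spMap (φ : C →ₐ[R] A)).left :=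
    IsClosedImmersion.spec_of_surjective _ hsurj
  have e : i = inv eH.hom.hom.hom ≫ spMap (φ : C →ₐ[R] A) ≫ inv eG.inv.hom.hom := by
    rw [← hφ]; simp
  rw [e, Over.comp_left, Over.comp_left]
  haveI : IsIso (inv eH.hom.hom.hom).left := inferInstanceAs (IsIso ((Over.forget _).map (inv eH.hom.hom.hom)))
  haveI : IsIso (inv eG.inv.hom.hom).left := inferInstanceAs (IsIso ((Over.forget _).map (inv eG.inv.hom.hom)))
  infer_instance

/-- A monomorphism from a group of multiplicative type into an affine group is a closed immersion. -/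
theorem isClosedImmersion_of_mono {S : Scheme.{u}} {H G : Over S} [GrpObj H] [GrpObj G]
    (hH : SGA3x.IsMultTypeFT H) (hGa : IsAffineHom G.hom) (i : H ⟶ G) [IsMonHom i] [Mono i] :
    IsClosedImmersion i.left := by
  haveI := (TransLib.multTypeFT_essFree hH).1
  refine IsZariskiLocalAtTarget.of_forall_exists_morphismRestrict fun x => ?_
  obtain ⟨U, hU, hxU, -⟩ := exists_isAffineOpen_mem_and_subset (show G.hom.base x ∈ (⊤ : S.Opens) from trivial)
  refine ⟨G.hom ⁻¹ᵁ U, hxU, ?_⟩
  let R : Type u := Γ(S, U)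
  let g : Spec (CommRingCat.of R) ⟶ S := hU.fromSpec
  haveI : IsAffineHom (pullback.snd H.hom g) := MorphismProperty.pullback_snd _ _ inferInstance
  haveI : IsAffineHom (pullback.snd G.hom g) := MorphismProperty.pullback_snd _ _ inferInstance
  haveI : IsAffine (Red.bc g H).left := isAffine_of_isAffineHom (pullback.snd H.hom g)
  haveI : IsAffine (Red.bc g G).left := isAffine_of_isAffineHom (pullback.snd G.hom g)
  haveI : IsMonHom ((Over.pullback g).map i) := inferInstance
  haveI : Mono ((Over.pullback g).map i) := inferInstance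
  have hci : IsClosedImmersion ((Over.pullback g).map i).left :=
    isClosedImmersion_of_mono_affine (locDiag_bc g hH) ((Over.pullback g).map i)
  have H1 : IsPullback (pullback.fst H.hom g) ((Over.pullback g).map i).left i.left (pullback.fst G.hom g) :=
    IsPullback.of_bot (v₂₁ := pullback.snd G.hom g) (v₂₂ := G.hom) (h₃₁ := g)
      (by simpa using IsPullback.of_hasPullback H.hom g) (by simp) (IsPullback.of_hasPullback G.hom g)
  haveI : IsOpenImmersion (pullback.fst G.hom g) := inferInstance
  have hr : Set.range (pullback.fst G.hom g).base = ((G.hom ⁻¹ᵁ U : G.left.Opens) : Set G.left) := by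
    rw [IsOpenImmersion.range_pullbackFst]
    show G.hom.base ⁻¹' Set.range hU.fromSpec.base = _
    rw [hU.range_fromSpec]
    rfl
  have hr' : Scheme.Hom.opensRange (pullback.fst G.hom g) = G.hom ⁻¹ᵁ U := TopologicalSpace.Opens.ext hr
  rw [← hr']
  exact (MorphismProperty.arrow_mk_iso_iff @IsClosedImmersion
    (morphismRestrictOpensRange i.left (pullback.fst G.hom g))).mpr
      (by
        rw [← MorphismProperty.arrow_mk_iso_iff @IsClosedImmersion (Arrow.isoMk (f := Arrow.mk ((Over.pullback g).map i).left)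
          (g := Arrow.mk (pullback.snd i.left (pullback.fst G.hom g))) H1.isoPullback (Iso.refl _)
          (by simp))]
        exact hci)

end Groth.Agent.MultTransp18
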