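import Groth.Agent.MultTransp18.Lift
import Groth.Agent.MultTransp18.Mono
import Groth.Agent.MultTypeLib.Mono
import Mathlib.RingTheory.Bialgebra.TensorProduct

/-!
# Lifting points transporting one subgroup of multiplicative type into another
-/

universe u

open CategoryTheory CategoryTheory.Limits MonoidalCategory CartesianMonoidalCategory MonObj AlgebraicGeometry
open TensorProduct WithConv
open Groth.Agent.GrpSchLib.AffineHopf

set_option backward.isDefEq.respectTransparency false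
set_option linter.style.haveILetI false
set_option maxHeartbeats 1000000

namespace Groth.Agent.MultTransp18

attribute [local instance 2000] MultTypeLib.algConvGroup

variable {R : Type u} [CommRing R] {C : Type u} [CommRing C] [HopfAlgebra R C]
variable {A A' : Type u} [CommRing A] [HopfAlgebra R A] [CommRing A'] [HopfAlgebra R A']

omit [HopfAlgebra R C] in
theorem mem_smul_map {M N : Type u} [AddCommGroup M] [Module R M] [AddCommGroup N] [Module R N] (J : Ideal R)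
    (f : M →ₗ[R] N) (hf : Function.Surjective f) {y : N} (hy : y ∈ (J • ⊤ : Submodule R N)) :
    ∃ x ∈ (J • ⊤ : Submodule R M), f x = y := by
  have h : (J • ⊤ : Submodule R M).map f = (J • ⊤ : Submodule R N) := by
    rw [Submodule.map_smul'', Submodule.map_top, LinearMap.range_eq_top.mpr hf]
  rw [← h] at hy
  exact hy

/-- A homomorphism factoring through a closed subgroup modulo a nilpotent ideal lifts to a factored one. -/
theorem exists_factor_lift (hA : SGA3b.IsMultType R A) (hA' : SGA3b.IsMultType R A') {J : Ideal R}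
    (hJ : IsNilpotent J) (iot : C →ₐc[R] A') (hiot : Function.Surjective iot) (χ : C →ₐc[R] A)
    (h : ∀ c, iot c = 0 → χ c ∈ (J • ⊤ : Submodule R A)) :
    ∃ φ : A' →ₐc[R] A, ∀ c, φ (iot c) - χ c ∈ (J • ⊤ : Submodule R A) := by
  let P : (R ⧸ J) ⊗[R] C →ₐc[R ⧸ J] (R ⧸ J) ⊗[R] A' :=
    Bialgebra.TensorProduct.map (BialgHom.id (R ⧸ J) (R ⧸ J)) iot
  let X : (R ⧸ J) ⊗[R] C →ₐc[R ⧸ J] (R ⧸ J) ⊗[R] A :=
    Bialgebra.TensorProduct.map (BialgHom.id (R ⧸ J) (R ⧸ J)) χ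
  have hrep : ∀ z : (R ⧸ J) ⊗[R] C, ∃ c, z = 1 ⊗ₜ c := fun z => by
    obtain ⟨c, hc⟩ := TensorProduct.mk_surjective R C (R ⧸ J) Ideal.Quotient.mk_surjective z
    exact ⟨c, hc.symm⟩
  have hP : Function.Surjective P := fun z => by
    obtain ⟨a, rfl⟩ := TensorProduct.mk_surjective R A' (R ⧸ J) Ideal.Quotient.mk_surjective z
    obtain ⟨c, rfl⟩ := hiot a
    exact ⟨1 ⊗ₜ c, rfl⟩
  have hker : RingHom.ker (P : (R ⧸ J) ⊗[R] C →ₐ[R ⧸ J] (R ⧸ J) ⊗[R] A') ≤
      RingHom.ker (X : (R ⧸ J) ⊗[R] C →ₐ[R ⧸ J] (R ⧸ J) ⊗[R] A) := by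
    intro z hz
    obtain ⟨c, rfl⟩ := hrep z
    rw [RingHom.mem_ker] at hz ⊢
    have hz' : (1 : R ⧸ J) ⊗ₜ[R] iot c = (1 : R ⧸ J) ⊗ₜ[R] (0 : A') := by rw [TensorProduct.tmul_zero]; exact hz
    have hm := (MultTypeLib.one_tmul_eq_iff_mem J _ _).mp hz'
    rw [sub_zero] at hm
    obtain ⟨c', hc', e⟩ := mem_smul_map J (iot : C →ₐ[R] A').toLinearMap hiot hm
    have h1 : χ (c - c') ∈ (J • ⊤ : Submodule R A) := h _ (by rw [map_sub]; exact sub_eq_zero.mpr e.symm)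
    have h2 : χ c' ∈ (J • ⊤ : Submodule R A) := MultTypeLib.map_smul_top (χ : C →ₐ[R] A).toLinearMap hc'
    have h3 : χ c ∈ (J • ⊤ : Submodule R A) := by
      have := add_mem h1 h2
      rwa [map_sub, sub_add_cancel] at this
    show (1 : R ⧸ J) ⊗ₜ[R] χ c = 0
    rw [← TensorProduct.tmul_zero A (1 : R ⧸ J)]
    exact (MultTypeLib.one_tmul_eq_iff_mem J _ _).mpr (by rwa [sub_zero])
  let f : (R ⧸ J) ⊗[R] A' →ₐ[R ⧸ J] (R ⧸ J) ⊗[R] A := AlgHom.liftOfSurjective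
    (P : (R ⧸ J) ⊗[R] C →ₐ[R ⧸ J] (R ⧸ J) ⊗[R] A') hP (X : (R ⧸ J) ⊗[R] C →ₐ[R ⧸ J] (R ⧸ J) ⊗[R] A) hker
  have hf : ∀ z, f (P z) = X z := fun z => AlgHom.liftOfSurjective_apply _ _ _ hker z
  let φ₀ : (R ⧸ J) ⊗[R] A' →ₐc[R ⧸ J] (R ⧸ J) ⊗[R] A := BialgHom.ofAlgHom f
    (AlgHom.ext fun y => by
      obtain ⟨z, rfl⟩ := hP y
      show Coalgebra.counit (R := R ⧸ J) (f (P z)) = Coalgebra.counit (R := R ⧸ J) (P z)
      rw [hf, CoalgHomClass.counit_comp_apply, CoalgHomClass.counit_comp_apply])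
    (AlgHom.ext fun y => by
      obtain ⟨z, rfl⟩ := hP y
      show Algebra.TensorProduct.map f f (Coalgebra.comul (R := R ⧸ J) (P z)) = Coalgebra.comul (R := R ⧸ J) (f (P z))
      rw [hf, ← CoalgHomClass.map_comp_comul_apply, ← CoalgHomClass.map_comp_comul_apply]
      generalize Coalgebra.comul (R := R ⧸ J) z = w
      induction w using TensorProduct.induction_on with
      | zero => simp only [map_zero]
      | add a b ha hb => simp only [map_add, ha, hb]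
      | tmul a b =>
        show f (P a) ⊗ₜ[R ⧸ J] f (P b) = X a ⊗ₜ[R ⧸ J] X b
        rw [hf, hf])
  obtain ⟨φ, hφ⟩ := MultTypeLib.exists_bialgHom_lift_nil hJ hA' hA φ₀
  refine ⟨φ, fun c => (MultTypeLib.one_tmul_eq_iff_mem J _ _).mp ?_⟩
  rw [← hφ]
  exact hf (1 ⊗ₜ c)

/-- The factorisation of a point gives the kernel condition. -/
theorem mem_of_factor {J : Ideal R} (iot : C →ₐc[R] A') (χ : C →ₐc[R] A) (x : sp R (Ared J A) ⟶ sp R A')
    (hx : spMap (Ideal.Quotient.mkₐ R (J.map (algebraMap R A))) ≫ spMap (χ : C →ₐ[R] A) = x ≫ spMap (iot : C →ₐ[R] A'))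
    (c : C) (hc : iot c = 0) : χ c ∈ (J • ⊤ : Submodule R A) := by
  obtain ⟨f, rfl⟩ := exists_eq_spMap x
  rw [spMap_comp, spMap_comp] at hx
  rw [Ideal.smul_top_eq_map]
  have := DFunLike.congr_fun (spMap_injective hx) c
  refine Ideal.Quotient.eq_zero_iff_mem.mp (this.trans ?_)
  show f (iot c) = 0
  rw [hc, map_zero]

theorem cong_eq_id {J : Ideal R} (hA : SGA3b.IsMultType R A) (hJ : IsNilpotent J) (iot : C →ₐc[R] A)
    (hiot : Function.Surjective iot) (φ : A →ₐc[R] A) (h : ∀ c, φ (iot c) - iot c ∈ (J • ⊤ : Submodule R A)) :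
    φ = BialgHom.id R A :=
  MultTypeLib.bialgHom_ext_nil hJ hA hA _ _ fun a => by obtain ⟨c, rfl⟩ := hiot a; exact h c

theorem surjective_conj (hA : SGA3b.IsMultType R A) (gam' gam : C →ₐc[R] A) (hgam : Function.Surjective gam)
    (g : WithConv (C →ₐ[R] R)) (h : homPt gam' = basePt g * homPt gam * (basePt g)⁻¹) : Function.Surjective gam' := by
  refine MultTypeLib.surjective_of_mono hA gam' fun T _ _ x y hxy => ?_
  have hx : MultTypeLib.convMap x (homPt gam') = MultTypeLib.convMap y (homPt gam') := congrArg toConv hxy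
  rw [h, map_mul, map_mul, map_mul, map_mul, map_inv, map_inv, convMap_basePt, convMap_basePt] at hx
  have hxy' := mul_left_cancel (mul_right_cancel hx)
  exact AlgHom.ext fun a => by
    obtain ⟨c, rfl⟩ := hgam a
    exact DFunLike.congr_fun (congrArg WithConv.ofConv hxy') c

/-- Transport of a lifting problem into coordinates, in Hopf form: one inclusion, and equality if both hold. -/
theorem exists_sub_lift_hopf [Algebra.Smooth R C] (hA : SGA3b.IsMultType R A) (hA' : SGA3b.IsMultType R A')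
    {J : Ideal R} (hJ : IsNilpotent J) (gam : C →ₐc[R] A) (iot : C →ₐc[R] A') (hgam : Function.Surjective gam)
    (hiot : Function.Surjective iot) (g₀ : red J ⟶ sp R C) (x : sp R (Ared J A) ⟶ sp R A')
    (h0 : (toRed J ≫ g₀) * (spMap (Ideal.Quotient.mkₐ R (J.map (algebraMap R A))) ≫ spMap (gam : C →ₐ[R] A)) *
      (toRed J ≫ g₀)⁻¹ = x ≫ spMap (iot : C →ₐ[R] A')) :
    ∃ (g : 𝟙_ (Over (Spec (CommRingCat.of R))) ⟶ sp R C) (φ : A' →ₐc[R] A), toUnit (red J) ≫ g = g₀ ∧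
      (toUnit _ ≫ g) * spMap (gam : C →ₐ[R] A) * (toUnit _ ≫ g)⁻¹ =
        spMap (φ : A' →ₐ[R] A) ≫ spMap (iot : C →ₐ[R] A') ∧
      ((∃ y : sp R (Ared J A') ⟶ sp R A,
        (toRed J ≫ g₀)⁻¹ * (spMap (Ideal.Quotient.mkₐ R (J.map (algebraMap R A'))) ≫ spMap (iot : C →ₐ[R] A')) *
          (toRed J ≫ g₀) = y ≫ spMap (gam : C →ₐ[R] A)) → Function.Bijective φ) := by
  obtain ⟨m⟩ := MultTypeLib.exists_mean hA
  obtain ⟨g₁, rfl⟩ := exists_lift_point hJ g₀
  obtain ⟨gam₁, hgam₁⟩ := exists_conj_hom gam g₁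
  let q : A →ₐ[R] Ared J A := Ideal.Quotient.mkₐ R (J.map (algebraMap R A))
  have hq1 : spMap q ≫ spMap (gam₁ : C →ₐ[R] A) = x ≫ spMap (iot : C →ₐ[R] A') := by
    show spMap q ≫ ptHom A (homPt gam₁) = _
    rw [comp_ptHom, hgam₁]
    simp only [map_mul, map_inv, convMap_basePt]
    rw [← comp_ptHom q (homPt gam), ← toRed_toUnit_secOf]
    exact h0
  obtain ⟨φ, hφ⟩ := exists_factor_lift hA hA' hJ iot hiot gam₁ (mem_of_factor iot gam₁ x hq1)
  obtain ⟨g, hg, hgb⟩ := exists_conj_pt m hJ (φ.comp iot) gam₁ (fun c => by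
    rw [← neg_sub]
    exact neg_mem (hφ c))
  refine ⟨secOf (g * g₁).ofConv, φ, cong_unit_toUnit_secOf g₁ hg, ?_, fun ⟨y, hy⟩ => ?_⟩
  · rw [spMap_comp, toUnit_secOf']
    show _ * ptHom A (homPt gam) * _ = ptHom A (homPt (φ.comp iot))
    rw [← map_inv, ← map_mul, ← map_mul, hgb, hgam₁,
      show basePt (T := A) (g * g₁) = basePt g * basePt g₁ from map_mul _ _ _]
    group
  · let q' : A' →ₐ[R] Ared J A' := Ideal.Quotient.mkₐ R (J.map (algebraMap R A'))
    have hq2 : spMap q' ≫ spMap (iot : C →ₐ[R] A') = y ≫ spMap (gam₁ : C →ₐ[R] A) := by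
      obtain ⟨f, rfl⟩ := exists_eq_spMap y
      show _ = spMap f ≫ ptHom A (homPt gam₁)
      rw [comp_ptHom, hgam₁]
      simp only [map_mul, map_inv, convMap_basePt]
      rw [← comp_ptHom f (homPt gam), ← toRed_toUnit_secOf,
        show spMap f ≫ ptHom A (homPt gam) = spMap f ≫ spMap (gam : C →ₐ[R] A) from rfl, ← hy]
      group
      rfl
    have hsurj := surjective_conj hA gam₁ gam hgam g₁ hgam₁
    obtain ⟨φ', hφ'⟩ := exists_factor_lift hA' hA hJ gam₁ hsurj iot (mem_of_factor gam₁ iot y hq2)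
    have e1 : φ'.comp φ = BialgHom.id R A' := cong_eq_id hA' hJ iot hiot _ fun c => by
      have h1 := MultTypeLib.map_smul_top (φ' : A →ₐ[R] A').toLinearMap (hφ c)
      have h2 := hφ' c
      have := add_mem h1 h2
      simpa using this
    have e2 : φ.comp φ' = BialgHom.id R A := cong_eq_id hA hJ gam₁ hsurj _ fun c => by
      have h1 := MultTypeLib.map_smul_top (φ : A' →ₐ[R] A).toLinearMap (hφ' c)
      have h2 := hφ c
      have := add_mem h1 h2
      simpa using this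
    exact Function.bijective_iff_has_inverse.mpr ⟨φ', fun a => DFunLike.congr_fun e1 a, fun a => DFunLike.congr_fun e2 a⟩

theorem surjective_of_mono_spMap (hA : SGA3b.IsMultType R A) (gam : C →ₐc[R] A) [Mono (spMap (gam : C →ₐ[R] A))] :
    Function.Surjective gam :=
  MultTypeLib.surjective_of_mono hA gam fun T _ _ x y hxy => spMap_injective
    ((cancel_mono (spMap (gam : C →ₐ[R] A))).mp (by rw [spMap_comp, spMap_comp]; exact congrArg spMap hxy))

/-- Points transporting one subgroup of multiplicative type into another lift along nilpotent ideals. -/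
theorem exists_sub_lift {J : Ideal R} (hJ : IsNilpotent J) (H H' G : Over (Spec (CommRingCat.of R))) [GrpObj H]
    [GrpObj H'] [GrpObj G] [IsAffine H.left] [IsAffine H'.left] [IsAffine G.left] (hH : LocDiag H) (hH' : LocDiag H')
    (hG : Smooth G.hom) (i : H ⟶ G) [IsMonHom i] [Mono i] (i' : H' ⟶ G) [IsMonHom i'] [Mono i'] (g₀ : red J ⟶ G)
    (h0 : ∀ (X : Over (Spec (CommRingCat.of R))) (p : X ⟶ red J) (h : X ⟶ H),
      ∃ h' : X ⟶ H', (p ≫ g₀) * (h ≫ i) * (p ≫ g₀)⁻¹ = h' ≫ i') :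
    ∃ (g : 𝟙_ (Over (Spec (CommRingCat.of R))) ⟶ G) (ψ : H ⟶ H'), toUnit (red J) ≫ g = g₀ ∧
      (∀ (X : Over (Spec (CommRingCat.of R))) (h : X ⟶ H),
        (toUnit X ≫ g) * (h ≫ i) * (toUnit X ≫ g)⁻¹ = (h ≫ ψ) ≫ i') ∧
      ((∀ (X : Over (Spec (CommRingCat.of R))) (p : X ⟶ red J) (h' : X ⟶ H'),
        ∃ h : X ⟶ H, (p ≫ g₀)⁻¹ * (h' ≫ i') * (p ≫ g₀) = h ≫ i) → IsIso ψ) := by
  obtain ⟨A, _, _, ⟨eH⟩⟩ := exists_hopf H
  obtain ⟨A', _, _, ⟨eH'⟩⟩ := exists_hopf H'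
  obtain ⟨C, _, _, ⟨eG⟩⟩ := exists_hopf G
  haveI : IsMonHom eH.hom.hom.hom := eH.hom.hom.isMonHom_hom
  haveI : IsMonHom eH'.hom.hom.hom := eH'.hom.hom.isMonHom_hom
  haveI : IsMonHom eG.inv.hom.hom := eG.inv.hom.isMonHom_hom
  haveI : IsMonHom eG.hom.hom.hom := eG.hom.hom.isMonHom_hom
  have eH1 : eH.inv.hom.hom ≫ eH.hom.hom.hom = 𝟙 _ := congrArg (fun m => m.hom.hom) eH.inv_hom_id
  have eH2 : eH.hom.hom.hom ≫ eH.inv.hom.hom = 𝟙 _ := congrArg (fun m => m.hom.hom) eH.hom_inv_id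
  have eH1' : eH'.inv.hom.hom ≫ eH'.hom.hom.hom = 𝟙 _ := congrArg (fun m => m.hom.hom) eH'.inv_hom_id
  have eH2' : eH'.hom.hom.hom ≫ eH'.inv.hom.hom = 𝟙 _ := congrArg (fun m => m.hom.hom) eH'.hom_inv_id
  have eG1 : eG.inv.hom.hom ≫ eG.hom.hom.hom = 𝟙 _ := congrArg (fun m => m.hom.hom) eG.inv_hom_id
  have eG2 : eG.hom.hom.hom ≫ eG.inv.hom.hom = 𝟙 _ := congrArg (fun m => m.hom.hom) eG.hom_inv_id
  haveI : IsIso eH.hom.hom.hom := ⟨_, eH2, eH1⟩
  haveI : IsIso eH'.hom.hom.hom := ⟨_, eH2', eH1'⟩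
  haveI : IsIso eG.inv.hom.hom := ⟨_, eG1, eG2⟩
  have hA : SGA3b.IsMultType R A := isMultType_of_locDiag eH hH
  have hA' : SGA3b.IsMultType R A' := isMultType_of_locDiag eH' hH'
  haveI : Algebra.Smooth R C := by
    haveI : IsIso eG.hom.hom.hom.left :=
      ⟨eG.inv.hom.hom.left, congrArg CommaMorphism.left eG2, congrArg CommaMorphism.left eG1⟩
    haveI := hG
    have : Smooth (sp R C).hom := by rw [← Over.w eG.hom.hom.hom]; infer_instance
    exact RingHom.smooth_algebraMap.mp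
      ((HasRingHomProperty.Spec_iff (P := @Smooth) (φ := CommRingCat.ofHom (algebraMap R C))).mp this)
  obtain ⟨gam, hgam⟩ := exists_bialgHom (eH.hom.hom.hom ≫ i ≫ eG.inv.hom.hom)
  obtain ⟨iot, hiot⟩ := exists_bialgHom (eH'.hom.hom.hom ≫ i' ≫ eG.inv.hom.hom)
  haveI : Mono (spMap (gam : C →ₐ[R] A)) := hgam ▸ inferInstance
  haveI : Mono (spMap (iot : C →ₐ[R] A')) := hiot ▸ inferInstance
  have conjInv : ∀ {X : Over (Spec (CommRingCat.of R))} (a b : X ⟶ G),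
      (a⁻¹ * b * a) ≫ eG.inv.hom.hom = (a ≫ eG.inv.hom.hom)⁻¹ * (b ≫ eG.inv.hom.hom) * (a ≫ eG.inv.hom.hom) :=
    fun a b => by rw [MonObj.mul_comp, MonObj.mul_comp, GrpObj.inv_comp]
  let q := spMap (Ideal.Quotient.mkₐ R (J.map (algebraMap R A)))
  obtain ⟨k, hk⟩ := h0 _ (toRed J) (q ≫ eH.hom.hom.hom)
  have hk' := congrArg (fun m => m ≫ eG.inv.hom.hom) hk
  simp only [map_conj, Category.assoc] at hk'
  rw [hgam] at hk'
  obtain ⟨g, φ, hg0, hg, hbij⟩ := exists_sub_lift_hopf hA hA' hJ gam iot (surjective_of_mono_spMap hA gam)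
    (surjective_of_mono_spMap hA' iot) (g₀ ≫ eG.inv.hom.hom) (k ≫ eH'.inv.hom.hom) (by
      rw [hk', ← hiot, Category.assoc, reassoc_of% eH1'])
  refine ⟨g ≫ eG.hom.hom.hom, eH.inv.hom.hom ≫ spMap (φ : A' →ₐ[R] A) ≫ eH'.hom.hom.hom,
    by rw [← Category.assoc, hg0, Category.assoc, eG1, Category.comp_id], fun X h => ?_, fun h0' => ?_⟩
  · have h2 := congrArg (fun m => h ≫ eH.inv.hom.hom ≫ m ≫ eG.hom.hom.hom) hg
    simp only [← hgam, ← hiot, map_conj, MonObj.comp_mul, GrpObj.comp_inv, Category.assoc, eG1, Category.comp_id,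
      comp_toUnit_assoc, reassoc_of% eH1] at h2
    simpa only [Category.assoc] using h2
  · obtain ⟨l, hl⟩ := h0' _ (toRed J) (spMap (Ideal.Quotient.mkₐ R (J.map (algebraMap R A'))) ≫ eH'.hom.hom.hom)
    have hl' := congrArg (fun m => m ≫ eG.inv.hom.hom) hl
    simp only [conjInv, Category.assoc] at hl'
    rw [hiot] at hl'
    have hb := hbij ⟨l ≫ eH.inv.hom.hom, by rw [hl', ← hgam, Category.assoc, reassoc_of% eH1]⟩
    let eφ : A' ≃ₐ[R] A := AlgEquiv.ofBijective (φ : A' →ₐ[R] A) hb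
    haveI : IsIso (spMap (φ : A' →ₐ[R] A)) := by
      refine ⟨spMap (eφ.symm : A →ₐ[R] A'), ?_, ?_⟩
      · rw [spMap_comp, ← spMap_id]
        exact congrArg spMap (AlgHom.ext fun a => eφ.apply_symm_apply a)
      · rw [spMap_comp, ← spMap_id]
        exact congrArg spMap (AlgHom.ext fun a => eφ.symm_apply_apply a)
    haveI : IsIso eH.inv.hom.hom := ⟨_, eH1, eH2⟩
    infer_instance

end Groth.Agent.MultTransp18
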