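import Groth.Agent.MultTransp18.Transp
import Groth.Agent.MultTransp18.SubLift
import Groth.Agent.GrpSchLib.MonoSubgroup

/-!
# Transporters of subgroups of multiplicative type of smooth affine groups
-/

universe u

open CategoryTheory CategoryTheory.Limits MonoidalCategory CartesianMonoidalCategory MonObj AlgebraicGeometry

set_option backward.isDefEq.respectTransparency false
set_option linter.style.haveILetI false
set_option synthInstance.maxHeartbeats 400000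
set_option maxHeartbeats 1000000

namespace Groth.Agent.MultTransp18

variable {S : Scheme.{u}} {H₁ H₂ G : Over S} [GrpObj G]

/-- Universally, the point `g` carries the first subgroup into the second. -/
def SubLE (i₁ : H₁ ⟶ G) (i₂ : H₂ ⟶ G) {X : Over S} (g : X ⟶ G) : Prop :=
  ∀ (X' : Over S) (x : X' ⟶ X) (h : X' ⟶ H₁), ∃ h' : X' ⟶ H₂, (x ≫ g) * (h ≫ i₁) * (x ≫ g)⁻¹ = h' ≫ i₂

/-- Universally, the point `g` carries the first subgroup onto the second. -/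
def SubEq (i₁ : H₁ ⟶ G) (i₂ : H₂ ⟶ G) {X : Over S} (g : X ⟶ G) : Prop :=
  ∀ (X' : Over S) (x : X' ⟶ X),
    (∀ h₁ : X' ⟶ H₁, ∃ h₂ : X' ⟶ H₂, (x ≫ g) * (h₁ ≫ i₁) * (x ≫ g)⁻¹ = h₂ ≫ i₂) ∧
    (∀ h₂ : X' ⟶ H₂, ∃ h₁ : X' ⟶ H₁, (x ≫ g)⁻¹ * (h₂ ≫ i₂) * (x ≫ g) = h₁ ≫ i₁)

theorem subEq_iff (i₁ : H₁ ⟶ G) (i₂ : H₂ ⟶ G) {X : Over S} (g : X ⟶ G) :
    SubEq i₁ i₂ g ↔ SubLE i₁ i₂ g ∧ SubLE i₂ i₁ g⁻¹ := by
  constructor
  · exact fun h => ⟨fun X' x a => (h X' x).1 a, fun X' x b => by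
      rw [GrpObj.comp_inv, inv_inv]; exact (h X' x).2 b⟩
  · refine fun h X' x => ⟨h.1 X' x, fun b => ?_⟩
    obtain ⟨a, ha⟩ := h.2 X' x b
    exact ⟨a, by rw [GrpObj.comp_inv, inv_inv] at ha; exact ha⟩

/-- The transporter of a subgroup of multiplicative type into a closed subgroup. -/
theorem exists_leTransporter [IsAffineHom G.hom] [Smooth G.hom] [GrpObj H₁] [GrpObj H₂]
    (h₁ : SGA3x.IsMultTypeFT H₁) (h₂ : SGA3x.IsMultTypeFT H₂) (i₁ : H₁ ⟶ G) [IsMonHom i₁] [Mono i₁]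
    (i₂ : H₂ ⟶ G) [IsMonHom i₂] [Mono i₂] :
    ∃ (T : Over S) (j : T ⟶ G), IsClosedImmersion j.left ∧ LocallyOfFinitePresentation j.left ∧
      ∀ (X : Over S) (g : X ⟶ G), (∃ t : X ⟶ T, t ≫ j = g) ↔ SubLE i₁ i₂ g := by
  haveI := isClosedImmersion_of_mono h₂ ‹_› i₂
  obtain ⟨hHa, hHe⟩ := TransLib.multTypeFT_essFree h₁
  obtain ⟨T, j, hj, hfp, hT⟩ := TransLib.exists_closed_universal_essFree (X := G) hHe
    (snd H₁ G * (fst H₁ G ≫ i₁) * (snd H₁ G)⁻¹) i₂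
  haveI : LocallyOfFinitePresentation i₂.left := by
    haveI : LocallyOfFinitePresentation (i₂.left ≫ G.hom) := by rw [Over.w i₂]; exact lfp_multTypeFT h₂
    exact S12442.locallyOfFinitePresentation_of_comp i₂.left G.hom
  refine ⟨T, j, hj, hfp inferInstance inferInstance,
    fun X g => (hT g).trans ⟨fun ⟨l, hl⟩ X' x a => ⟨lift a x ≫ l, ?_⟩, fun h => ?_⟩⟩
  · rw [Category.assoc, hl]
    simp [MonObj.comp_mul, GrpObj.comp_inv, lift_whiskerLeft_assoc]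
  · obtain ⟨l, hl⟩ := h (H₁ ⊗ X) (snd H₁ X) (fst H₁ X)
    exact ⟨l, by rw [← hl]; simp [MonObj.comp_mul, GrpObj.comp_inv]⟩

open DSPtsLib in
/-- The lifting data over the base change: one containment, and the equality if both hold. -/
theorem subTransp_lift [IsAffineHom G.hom] [Smooth G.hom] [GrpObj H₁] [GrpObj H₂] (h₁ : SGA3x.IsMultTypeFT H₁)
    (h₂ : SGA3x.IsMultTypeFT H₂) (i₁ : H₁ ⟶ G) [IsMonHom i₁] [Mono i₁] (i₂ : H₂ ⟶ G) [IsMonHom i₂] [Mono i₂]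
    (R : Type u) [CommRing R] (J : Ideal R) (hJ : J ^ 2 = ⊥) (b : Spec (CommRingCat.of R) ⟶ S)
    (g₀ : pushObj b (red J) ⟶ G) (h0 : SubLE i₁ i₂ g₀) :
    ∃ g : pushObj b (𝟙_ (Over (Spec (CommRingCat.of R)))) ⟶ G, SubLE i₁ i₂ g ∧
      (Over.map b).map (toUnit (red J)) ≫ g = g₀ ∧ (SubLE i₂ i₁ g₀⁻¹ → SubLE i₂ i₁ g⁻¹) := by
  haveI := (TransLib.multTypeFT_essFree h₁).1
  haveI := (TransLib.multTypeFT_essFree h₂).1
  haveI : IsAffineHom (pullback.snd H₁.hom b) := MorphismProperty.pullback_snd _ _ inferInstance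
  haveI : IsAffineHom (pullback.snd H₂.hom b) := MorphismProperty.pullback_snd _ _ inferInstance
  haveI : IsAffineHom (pullback.snd G.hom b) := MorphismProperty.pullback_snd _ _ inferInstance
  haveI : IsAffine (Red.bc b H₁).left := isAffine_of_isAffineHom (pullback.snd H₁.hom b)
  haveI : IsAffine (Red.bc b H₂).left := isAffine_of_isAffineHom (pullback.snd H₂.hom b)
  haveI : IsAffine (Red.bc b G).left := isAffine_of_isAffineHom (pullback.snd G.hom b)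
  have hGs : Smooth (Red.bc b G).hom := MorphismProperty.pullback_snd _ _ ‹_›
  obtain ⟨g, ψ, hg0, hg, hiso⟩ := exists_sub_lift (J := J) ⟨2, hJ⟩ (Red.bc b H₁) (Red.bc b H₂) (Red.bc b G)
    (locDiag_bc b h₁) (locDiag_bc b h₂) hGs ((Over.pullback b).map i₁) ((Over.pullback b).map i₂) (thetaInv b g₀)
    fun X p h => by
      obtain ⟨k, hk⟩ := h0 _ ((Over.map b).map p) (theta b h)
      refine ⟨thetaInv b k, (theta_bijective b).injective ?_⟩
      rw [theta_conj, theta_comp_map, theta_comp_map, theta_comp, theta_thetaInv, theta_thetaInv]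
      exact hk
  -- points over the base read over `R`
  have key : ∀ (X' : Over S) (x : X' ⟶ pushObj b (𝟙_ (Over (Spec (CommRingCat.of R))))),
      ∃ (Y : Over (Spec (CommRingCat.of R))) (e : (Over.map b).obj Y ⟶ X') (e' : X' ⟶ (Over.map b).obj Y),
        e' ≫ e = 𝟙 _ ∧ e ≫ x = (Over.map b).map (toUnit Y) := by
    intro X' x
    let Y : Over (Spec (CommRingCat.of R)) := Over.mk x.left
    have hb : x.left ≫ b = X'.hom := by
      have h1 := Over.w x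
      simpa using h1
    exact ⟨Y, Over.homMk (𝟙 _) (by simpa [Y] using hb.symm), Over.homMk (𝟙 _) (by simpa [Y] using hb),
      Over.OverMorphism.ext (Category.id_comp _), Over.OverMorphism.ext (Category.id_comp _)⟩
  refine ⟨theta b g, fun X' x h => ?_, by rw [← theta_comp, hg0, theta_thetaInv], fun h0' X' x h' => ?_⟩
  · obtain ⟨Y, e, e', hee, hx⟩ := key X' x
    have := congrArg (theta b) (hg Y (thetaInv b (e ≫ h)))
    rw [theta_conj, theta_comp_map, theta_comp_map, theta_comp, theta_thetaInv, ← hx, Category.assoc,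
      Category.assoc] at this
    have := congrArg (fun m => e' ≫ m) this
    simp only [MonObj.comp_mul, GrpObj.comp_inv, reassoc_of% hee] at this
    exact ⟨e' ≫ theta b (thetaInv b (e ≫ h) ≫ ψ), by rw [Category.assoc]; exact this⟩
  · haveI : IsIso ψ := hiso fun X p a => by
      obtain ⟨k, hk⟩ := h0' _ ((Over.map b).map p) (theta b a)
      refine ⟨thetaInv b k, (theta_bijective b).injective ?_⟩
      rw [theta_mul, theta_mul, theta_inv, theta_comp_map, theta_comp_map, theta_comp, theta_thetaInv, theta_thetaInv]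
      rw [GrpObj.comp_inv, inv_inv] at hk
      exact hk
    obtain ⟨Y, e, e', hee, hx⟩ := key X' x
    have := congrArg (theta b) (hg Y (thetaInv b (e ≫ h') ≫ inv ψ))
    rw [Category.assoc (thetaInv b (e ≫ h')) (inv ψ) ψ, IsIso.inv_hom_id, Category.comp_id, theta_conj,
      theta_comp_map, theta_comp_map, theta_comp, theta_thetaInv, ← hx, Category.assoc, Category.assoc] at this
    have := congrArg (fun m => e' ≫ m) this
    simp only [MonObj.comp_mul, GrpObj.comp_inv, reassoc_of% hee] at this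
    refine ⟨e' ≫ theta b (thetaInv b (e ≫ h') ≫ inv ψ), ?_⟩
    rw [Category.assoc, ← this, GrpObj.comp_inv, inv_inv]
    group

/-- The transporter is smooth. -/
theorem exists_leTransporter_smooth [IsAffineHom G.hom] [Smooth G.hom] [GrpObj H₁] [GrpObj H₂]
    (h₁ : SGA3x.IsMultTypeFT H₁) (h₂ : SGA3x.IsMultTypeFT H₂) (i₁ : H₁ ⟶ G) [IsMonHom i₁] [Mono i₁]
    (i₂ : H₂ ⟶ G) [IsMonHom i₂] [Mono i₂] :
    ∃ (T : Over S) (j : T ⟶ G), IsClosedImmersion j.left ∧ LocallyOfFinitePresentation j.left ∧ Smooth T.hom ∧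
      ∀ (X : Over S) (g : X ⟶ G), (∃ t : X ⟶ T, t ≫ j = g) ↔ SubLE i₁ i₂ g := by
  obtain ⟨T, j, hj, hfp, hT⟩ := exists_leTransporter h₁ h₂ i₁ i₂
  exact ⟨T, j, hj, hfp, smooth_of_lift j (fun _ g => SubLE i₁ i₂ g) hT fun R _ J hJ b g₀ h0 => by
    obtain ⟨g, hg, hg0, -⟩ := subTransp_lift h₁ h₂ i₁ i₂ R J hJ b g₀ h0
    exact ⟨g, hg, hg0⟩, hT⟩

/-- Intersections of closed subschemes. -/
theorem exists_inter {T₁ T₂ : Over S} (j₁ : T₁ ⟶ G) (j₂ : T₂ ⟶ G) [IsClosedImmersion j₁.left]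
    [LocallyOfFinitePresentation j₁.left] [IsClosedImmersion j₂.left] [LocallyOfFinitePresentation j₂.left] :
    ∃ (T : Over S) (j : T ⟶ G), IsClosedImmersion j.left ∧ LocallyOfFinitePresentation j.left ∧
      ∀ (X : Over S) (g : X ⟶ G),
        (∃ t : X ⟶ T, t ≫ j = g) ↔ (∃ t : X ⟶ T₁, t ≫ j₁ = g) ∧ (∃ t : X ⟶ T₂, t ≫ j₂ = g) := by
  have w : pullback.fst j₁.left j₂.left ≫ j₁.left = pullback.snd j₁.left j₂.left ≫ j₂.left := pullback.condition
  refine ⟨Over.mk ((pullback.fst j₁.left j₂.left ≫ j₁.left) ≫ G.hom),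
    Over.homMk (pullback.fst j₁.left j₂.left ≫ j₁.left) rfl, ?_, ?_, fun X g => ⟨?_, ?_⟩⟩
  · show IsClosedImmersion (pullback.fst j₁.left j₂.left ≫ j₁.left)
    infer_instance
  · show LocallyOfFinitePresentation (pullback.fst j₁.left j₂.left ≫ j₁.left)
    infer_instance
  · rintro ⟨t, rfl⟩
    refine ⟨⟨Over.homMk (t.left ≫ pullback.fst _ _) ?_, Over.OverMorphism.ext (Category.assoc _ _ _)⟩,
      ⟨Over.homMk (t.left ≫ pullback.snd _ _) ?_, Over.OverMorphism.ext ?_⟩⟩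
    · rw [Category.assoc, ← Over.w j₁, ← Over.w t]; simp
    · rw [Category.assoc, ← Over.w j₂, ← reassoc_of% w, ← Over.w t]; simp
    · show (t.left ≫ pullback.snd _ _) ≫ j₂.left = t.left ≫ pullback.fst _ _ ≫ j₁.left
      rw [Category.assoc]
      exact congrArg (t.left ≫ ·) w.symm
  · rintro ⟨⟨a, ha⟩, ⟨c, hc⟩⟩
    refine ⟨Over.homMk (pullback.lift a.left c.left ?_) ?_, Over.OverMorphism.ext ?_⟩
    · rw [← Over.comp_left, ← Over.comp_left, ha, hc]
    · show pullback.lift a.left c.left _ ≫ (pullback.fst _ _ ≫ j₁.left) ≫ G.hom = X.hom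
      rw [Category.assoc, pullback.lift_fst_assoc, Over.w j₁, Over.w a]
    · show pullback.lift a.left c.left _ ≫ pullback.fst _ _ ≫ j₁.left = g.left
      rw [pullback.lift_fst_assoc, ← Over.comp_left, ha]

/-- The inverse image of a closed subscheme under inversion. -/
theorem exists_invImage {T₁ : Over S} (j₁ : T₁ ⟶ G) [IsClosedImmersion j₁.left]
    [LocallyOfFinitePresentation j₁.left] :
    ∃ (T : Over S) (j : T ⟶ G), IsClosedImmersion j.left ∧ LocallyOfFinitePresentation j.left ∧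
      ∀ (X : Over S) (g : X ⟶ G), (∃ t : X ⟶ T, t ≫ j = g) ↔ ∃ t : X ⟶ T₁, t ≫ j₁ = g⁻¹ := by
  haveI : IsIso (GrpObj.inv : G ⟶ G) := inferInstance
  haveI : IsIso (GrpObj.inv : G ⟶ G).left := inferInstanceAs (IsIso ((Over.forget _).map (GrpObj.inv : G ⟶ G)))
  refine ⟨T₁, j₁ ≫ (GrpObj.inv : G ⟶ G), by rw [Over.comp_left]; infer_instance,
    by rw [Over.comp_left]; infer_instance, fun X g => exists_congr fun t => ?_⟩
  rw [← Category.assoc]
  constructor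
  · intro h
    rw [← h, show (t ≫ j₁) ≫ (GrpObj.inv : G ⟶ G) = (t ≫ j₁)⁻¹ from rfl, inv_inv]
  · intro h
    rw [show (t ≫ j₁) ≫ (GrpObj.inv : G ⟶ G) = (t ≫ j₁)⁻¹ from rfl, h, inv_inv]

/-- The transporter of one subgroup onto another is closed and smooth. -/
theorem exists_eqTransporter_smooth [IsAffineHom G.hom] [Smooth G.hom] [GrpObj H₁] [GrpObj H₂]
    (h₁ : SGA3x.IsMultTypeFT H₁) (h₂ : SGA3x.IsMultTypeFT H₂) (i₁ : H₁ ⟶ G) [IsMonHom i₁] [Mono i₁]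
    (i₂ : H₂ ⟶ G) [IsMonHom i₂] [Mono i₂] :
    ∃ (T : Over S) (j : T ⟶ G), IsClosedImmersion j.left ∧ LocallyOfFinitePresentation j.left ∧ Smooth T.hom ∧
      ∀ (X : Over S) (g : X ⟶ G), (∃ t : X ⟶ T, t ≫ j = g) ↔ SubEq i₁ i₂ g := by
  obtain ⟨T₁, j₁, _, _, hT₁⟩ := exists_leTransporter h₁ h₂ i₁ i₂
  obtain ⟨T₂, j₂, _, _, hT₂⟩ := exists_leTransporter h₂ h₁ i₂ i₁
  obtain ⟨T₃, j₃, _, _, hT₃⟩ := exists_invImage j₂
  obtain ⟨T, j, hj, hfp, hT⟩ := exists_inter j₁ j₃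
  have hT' : ∀ (X : Over S) (g : X ⟶ G), (∃ t : X ⟶ T, t ≫ j = g) ↔ SubEq i₁ i₂ g := fun X g => by
    rw [hT, hT₁, hT₃, hT₂, subEq_iff]
  exact ⟨T, j, hj, hfp, smooth_of_lift j (fun _ g => SubEq i₁ i₂ g) hT' fun R _ J hJ b g₀ h0 => by
    obtain ⟨g, hg, hg0, hg'⟩ := subTransp_lift h₁ h₂ i₁ i₂ R J hJ b g₀ ((subEq_iff i₁ i₂ g₀).mp h0).1
    exact ⟨g, (subEq_iff i₁ i₂ g).mpr ⟨hg, hg' ((subEq_iff i₁ i₂ g₀).mp h0).2⟩, hg0⟩, hT'⟩

/-- The transporter of homomorphisms is closed and smooth. -/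
theorem exists_homTransporter_smooth {H : Over S} [GrpObj H] [IsAffineHom G.hom] [Smooth G.hom]
    (hH : SGA3x.IsMultTypeFT H) (u v : H ⟶ G) [IsMonHom u] [IsMonHom v] :
    ∃ (T : Over S) (j : T ⟶ G), IsClosedImmersion j.left ∧ LocallyOfFinitePresentation j.left ∧ Smooth T.hom ∧
      ∀ (X : Over S) (g : X ⟶ G), (∃ t : X ⟶ T, t ≫ j = g) ↔ HomTransp u v g := by
  obtain ⟨hHa, hHe⟩ := TransLib.multTypeFT_essFree hH
  obtain ⟨T, j, hj, hfp, hT⟩ := exists_homTransporter hHe inferInstance u v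
  exact ⟨T, j, hj, hfp, smooth_of_lift j (fun _ g => HomTransp u v g) hT
    (fun R _ J hJ b g₀ h0 => homTransp_lift hH u v R J hJ b g₀ h0), hT⟩

/-- A closed subscheme whose points form a subgroup of every group of points is a subgroup scheme. -/
theorem exists_subgroup {T : Over S} (j : T ⟶ G) [Mono j] (P : ∀ ⦃X : Over S⦄, (X ⟶ G) → Prop)
    (hT : ∀ (X : Over S) (g : X ⟶ G), (∃ t : X ⟶ T, t ≫ j = g) ↔ P g)
    (h1 : P (1 : 𝟙_ (Over S) ⟶ G)) (hmul : ∀ (X : Over S) (a c : X ⟶ G), P a → P c → P (a * c))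
    (hinv : ∀ (X : Over S) (a : X ⟶ G), P a → P a⁻¹) :
    ∃ str : GrpObj T, @IsMonHom (Over S) _ _ T G str.toMonObj _ j := by
  obtain ⟨e, he⟩ := (hT _ _).mpr h1
  obtain ⟨m, hm⟩ := (hT _ _).mpr (hmul _ (fst T T ≫ j) (snd T T ≫ j) ((hT _ _).mp ⟨fst T T, rfl⟩)
    ((hT _ _).mp ⟨snd T T, rfl⟩))
  obtain ⟨v, hv⟩ := (hT _ _).mpr (hinv _ j ((hT _ j).mp ⟨𝟙 _, Category.id_comp _⟩))
  refine GrpSchLib.exists_grpObj_of_mono j e (he.trans ?_) m hm v hv
  rw [show (1 : 𝟙_ (Over S) ⟶ G) = toUnit _ ≫ η[G] from rfl, toUnit_unique (toUnit (𝟙_ (Over S))) (𝟙 _),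
    Category.id_comp]

end Groth.Agent.MultTransp18
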