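import Groth.Agent.MultTransp18.Lift
import Groth.Agent.MultTransp18.Mono
import Groth.Agent.TransLib.Universal
import Groth.Agent.DSPtsLib.Basic
import Groth.Agent.S1488

/-!
# Transporters of homomorphisms out of groups of multiplicative type into smooth affine groups
-/

universe u

open CategoryTheory CategoryTheory.Limits MonoidalCategory CartesianMonoidalCategory MonObj AlgebraicGeometry

set_option backward.isDefEq.respectTransparency false
set_option linter.style.haveILetI false
set_option synthInstance.maxHeartbeats 400000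
set_option maxHeartbeats 1000000

namespace Groth.Agent.MultTransp18

variable {S : Scheme.{u}} {H G : Over S} [GrpObj G]

/-- The point `g` conjugates `u` into `v`, universally. -/
def HomTransp (u v : H ⟶ G) {X : Over S} (g : X ⟶ G) : Prop :=
  ∀ (X' : Over S) (x : X' ⟶ X) (h : X' ⟶ H), (x ≫ g) * (h ≫ u) * (x ≫ g)⁻¹ = h ≫ v

theorem HomTransp.comp {u v : H ⟶ G} {X Y : Over S} {g : X ⟶ G} (hg : HomTransp u v g) (y : Y ⟶ X) :
    HomTransp u v (y ≫ g) := fun X' x h => by
  rw [← Category.assoc]
  exact hg X' (x ≫ y) h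

/-- The diagonal of a separated object is a closed immersion. -/
theorem isClosedImmersion_diag [IsSeparated G.hom] : IsClosedImmersion (lift (𝟙 G) (𝟙 G)).left := by
  have e : (lift (𝟙 G) (𝟙 G)).left = pullback.diagonal G.hom := by
    apply pullback.hom_ext
    · exact (congrArg CommaMorphism.left (lift_fst (𝟙 G) (𝟙 G))).trans (pullback.diagonal_fst G.hom).symm
    · exact (congrArg CommaMorphism.left (lift_snd (𝟙 G) (𝟙 G))).trans (pullback.diagonal_snd G.hom).symm
  rw [e]
  infer_instance

theorem lfp_diag_of [LocallyOfFiniteType G.hom] : LocallyOfFinitePresentation (lift (𝟙 G) (𝟙 G)).left := by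
  have e : (lift (𝟙 G) (𝟙 G)).left = pullback.diagonal G.hom := by
    apply pullback.hom_ext
    · exact (congrArg CommaMorphism.left (lift_fst (𝟙 G) (𝟙 G))).trans (pullback.diagonal_fst G.hom).symm
    · exact (congrArg CommaMorphism.left (lift_snd (𝟙 G) (𝟙 G))).trans (pullback.diagonal_snd G.hom).symm
  rw [e]
  haveI : LocallyOfFinitePresentation (pullback.diagonal G.hom ≫ pullback.fst G.hom G.hom) := by
    rw [pullback.diagonal_fst]; infer_instance
  exact S12442.locallyOfFinitePresentation_of_comp _ (pullback.fst G.hom G.hom)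

/-- The transporter of two homomorphisms out of an essentially free group is a closed subscheme. -/
theorem exists_homTransporter [IsAffineHom G.hom] [LocallyOfFiniteType G.hom] (hHe : SGA3x.IsEssentiallyFree H.hom)
    (hHq : QuasiCompact H.hom) (u v : H ⟶ G) :
    ∃ (T : Over S) (j : T ⟶ G), IsClosedImmersion j.left ∧ LocallyOfFinitePresentation j.left ∧
      ∀ (X : Over S) (g : X ⟶ G), (∃ t : X ⟶ T, t ≫ j = g) ↔ HomTransp u v g := by
  haveI := isClosedImmersion_diag (G := G)
  obtain ⟨T, j, hj, hfp, hT⟩ := TransLib.exists_closed_universal_essFree (X := G) hHe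
    (lift (snd H G * (fst H G ≫ u) * (snd H G)⁻¹) (fst H G ≫ v)) (lift (𝟙 G) (𝟙 G))
  refine ⟨T, j, hj, hfp hHq (lfp_diag_of (G := G)), fun X g => (hT g).trans ⟨fun ⟨l, hl⟩ X' x h => ?_, fun hg => ?_⟩⟩
  · have h1 := congrArg (fun m => lift h x ≫ m ≫ fst G G) hl
    have h2 := congrArg (fun m => lift h x ≫ m ≫ snd G G) hl
    simp [MonObj.comp_mul, GrpObj.comp_inv, lift_whiskerLeft_assoc] at h1 h2
    rw [← h1, ← h2]
  · have h' := hg (H ⊗ X) (snd H X) (fst H X)
    refine ⟨(H ◁ g) ≫ (fst H G ≫ v), ?_⟩
    apply CartesianMonoidalCategory.hom_ext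
    · simp [MonObj.comp_mul, GrpObj.comp_inv, h']
    · simp

/-- The object of `Over S` underlying an object over an affine scheme over `S`. -/
noncomputable abbrev pushObj {R : Type u} [CommRing R] (b : Spec (CommRingCat.of R) ⟶ S)
    (Y : Over (Spec (CommRingCat.of R))) : Over S :=
  (Over.map b).obj Y

/-- A closed subscheme of a smooth group cut out by a condition with the infinitesimal lifting property is smooth. -/
theorem smooth_of_lift [Smooth G.hom] {T : Over S} (j : T ⟶ G) [IsClosedImmersion j.left]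
    [LocallyOfFinitePresentation j.left] (P : ∀ ⦃X : Over S⦄, (X ⟶ G) → Prop)
    (hT : ∀ (X : Over S) (g : X ⟶ G), (∃ t : X ⟶ T, t ≫ j = g) ↔ P g)
    (hlift : ∀ (R : Type u) [CommRing R] (J : Ideal R), J ^ 2 = ⊥ → ∀ (b : Spec (CommRingCat.of R) ⟶ S)
      (g₀ : pushObj b (red J) ⟶ G), P g₀ →
      ∃ g : pushObj b (𝟙_ (Over (Spec (CommRingCat.of R)))) ⟶ G, P g ∧ (Over.map b).map (toUnit (red J)) ≫ g = g₀) :
    Smooth T.hom := by
  haveI : LocallyOfFinitePresentation T.hom := by rw [← Over.w j]; infer_instance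
  refine (S1488.result T.hom).mpr ⟨inferInstance, fun R _ J hJ a b hab => ?_⟩
  let a' : pushObj b (red J) ⟶ T := Over.homMk a hab.symm
  obtain ⟨g, hg, hg0⟩ := hlift R J hJ b (a' ≫ j) ((hT _ _).mp ⟨a', rfl⟩)
  obtain ⟨t, ht⟩ := (hT _ g).mpr hg
  haveI : Mono j := Over.mono_of_mono_left j
  have e : (Over.map b).map (toUnit (red J)) ≫ t = a' := by
    rw [← cancel_mono j, Category.assoc, ht, hg0]
  refine ⟨t.left, ?_, ?_⟩
  · exact congrArg CommaMorphism.left e
  · exact (Over.w t).trans (Category.id_comp b)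

section BaseChange

variable {U : Scheme.{u}} (b : U ⟶ S)

open DSPtsLib

theorem theta_comp_map {A B : Over S} (f : A ⟶ B) {Y : Over U} (a : Y ⟶ Red.bc b A) :
    theta b (a ≫ (Over.pullback b).map f) = theta b a ≫ f :=
  (Over.mapPullbackAdj b).homEquiv_naturality_right_symm a f

theorem theta_inv {Y : Over U} (a : Y ⟶ Red.bc b G) : theta b a⁻¹ = (theta b a)⁻¹ := by
  refine eq_inv_of_mul_eq_one_left ?_
  have h1 : theta b (1 : Y ⟶ Red.bc b G) = 1 := by
    have := theta_mul b (1 : Y ⟶ Red.bc b G) 1
    rw [_root_.one_mul] at this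
    exact mul_eq_left.mp this.symm
  rw [← theta_mul, inv_mul_cancel, h1]

/-- The point over the base change corresponding to a point over the base. -/
noncomputable def thetaInv {Y : Over U} (a : (Over.map b).obj Y ⟶ G) : Y ⟶ Red.bc b G :=
  (Equiv.ofBijective _ (theta_bijective (g := b) (Y := Y) (H := G))).symm a

theorem theta_thetaInv {Y : Over U} (a : (Over.map b).obj Y ⟶ G) : theta b (thetaInv b a) = a :=
  (Equiv.ofBijective _ (theta_bijective (g := b) (Y := Y) (H := G))).apply_symm_apply a

theorem theta_conj {Y : Over U} (a c : Y ⟶ Red.bc b G) :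
    theta b (a * c * a⁻¹) = theta b a * theta b c * (theta b a)⁻¹ := by
  rw [theta_mul, theta_mul, theta_inv]

end BaseChange

set_option maxHeartbeats 1000000 in
open DSPtsLib in
/-- The transporter of two homomorphisms has the infinitesimal lifting property. -/
theorem homTransp_lift [GrpObj H] [Smooth G.hom] [IsAffineHom G.hom] (hH : SGA3x.IsMultTypeFT H) (u v : H ⟶ G)
    [IsMonHom u] [IsMonHom v] (R : Type u) [CommRing R] (J : Ideal R) (hJ : J ^ 2 = ⊥)
    (b : Spec (CommRingCat.of R) ⟶ S) (g₀ : pushObj b (red J) ⟶ G) (h0 : HomTransp u v g₀) :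
    ∃ g : pushObj b (𝟙_ (Over (Spec (CommRingCat.of R)))) ⟶ G, HomTransp u v g ∧
      (Over.map b).map (toUnit (red J)) ≫ g = g₀ := by
  haveI := (TransLib.multTypeFT_essFree hH).1
  haveI : IsAffineHom (pullback.snd H.hom b) := MorphismProperty.pullback_snd _ _ inferInstance
  haveI : IsAffineHom (pullback.snd G.hom b) := MorphismProperty.pullback_snd _ _ inferInstance
  haveI : IsAffine (Red.bc b H).left := isAffine_of_isAffineHom (pullback.snd H.hom b)
  haveI : IsAffine (Red.bc b G).left := isAffine_of_isAffineHom (pullback.snd G.hom b)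
  have hGs : Smooth (Red.bc b G).hom := MorphismProperty.pullback_snd _ _ ‹_›
  obtain ⟨g, hg0, hg⟩ := exists_conj_lift (J := J) ⟨2, hJ⟩ (Red.bc b H) (Red.bc b G) (locDiag_bc b hH) hGs
    ((Over.pullback b).map u) ((Over.pullback b).map v) (thetaInv b g₀) fun X p h => (theta_bijective b).injective (by
      rw [theta_conj, theta_comp_map, theta_comp_map, theta_comp, theta_thetaInv]
      exact (h0 _ ((Over.map b).map p) (theta b h)).symm)
  refine ⟨theta b g, fun X' x h => ?_, by rw [← theta_comp, hg0, theta_thetaInv]⟩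
  let Y : Over (Spec (CommRingCat.of R)) := Over.mk x.left
  have hb : x.left ≫ b = X'.hom := by
    have h1 := Over.w x
    simpa using h1
  let e : (Over.map b).obj Y ⟶ X' := Over.homMk (𝟙 _) (by simpa [Y] using hb.symm)
  let e' : X' ⟶ (Over.map b).obj Y := Over.homMk (𝟙 _) (by simpa [Y] using hb)
  have hee : e' ≫ e = 𝟙 _ := Over.OverMorphism.ext (Category.id_comp _)
  have hx : e ≫ x = (Over.map b).map (toUnit Y) := Over.OverMorphism.ext (Category.id_comp _)
  have := congrArg (theta b) (hg Y (thetaInv b (e ≫ h)))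
  rw [theta_conj, theta_comp_map, theta_comp_map, theta_comp, theta_thetaInv, ← hx, Category.assoc, Category.assoc,
    Category.assoc] at this
  have := congrArg (fun m => e' ≫ m) this
  simp only [MonObj.comp_mul, GrpObj.comp_inv, reassoc_of% hee] at this
  exact this.symm

end Groth.Agent.MultTransp18
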