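import Groth.Agent.MultTransp18.InfHomScheme
import Groth.Agent.MultTransp18.Transp
import Groth.Prelude.Def_AlgGrp

/-!
# Fixed points of actions of groups of multiplicative type lift along square zero ideals
-/

universe u

open CategoryTheory CategoryTheory.Limits MonoidalCategory CartesianMonoidalCategory MonObj AlgebraicGeometry
open TensorProduct
open Groth.Agent.GrpSchLib.AffineHopf Groth.Agent.DSPtsLib

set_option backward.isDefEq.respectTransparency false
set_option linter.style.haveILetI false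
set_option synthInstance.maxHeartbeats 400000
set_option maxHeartbeats 1000000

namespace Groth.Agent.MultTransp18

theorem action_mul {S : Scheme.{u}} {H X : Over S} [GrpObj H] (a : AlgGrp.Action H X) {T : Over S} (h k : T ⟶ H)
    (x : T ⟶ X) : lift (h * k) x ≫ a.act = lift h (lift k x ≫ a.act) ≫ a.act := by
  have := congrArg (fun m => lift (lift h k) x ≫ m) a.mul_act
  simpa [lift_whiskerRight_assoc, lift_lift_associator_hom_assoc, lift_whiskerLeft_assoc, Hom.mul_def] using this

variable {R : Type u} [CommRing R] {J : Ideal R} {G : Over (Spec (CommRingCat.of R))} [GrpObj G]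

/-- Push forwards of points map under morphisms of two variables. -/
theorem IsPush.map₂ {A₀ B : Type u} [CommRing A₀] [Algebra R A₀] [CommRing B] [Algebra R B] {hJ : J ^ 2 = ⊥}
    {j : A₀ →ₐ[R] B} {l : B →ₗ[R] A₀} {hl : ∀ x y, l (x * j y) = l x * y} {hl1 : l 1 = 1}
    {H : Over (Spec (CommRingCat.of R))} [GrpObj H] (act : H ⊗ G ⟶ G) {a : sp R B ⟶ H} {wa ya : sp R A₀ ⟶ H}
    {x : sp R B ⟶ G} {w y : sp R A₀ ⟶ G} (ha : IsPush hJ j l hl hl1 a wa ya) (hx : IsPush hJ j l hl hl1 x w y) :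
    IsPush hJ j l hl hl1 (lift a x ≫ act) (lift wa w ≫ act) (lift ya y ≫ act) := by
  obtain ⟨p, p1, p2, p3⟩ := ha
  obtain ⟨q, q1, q2, q3⟩ := hx
  refine ⟨lift p q ≫ act, ?_, ?_, ?_⟩
  · rw [← Category.assoc, comp_lift, p1, q1]
  · rw [← Category.assoc, comp_lift, p2, q2]
  · rw [← Category.assoc, comp_lift, p3, q3]

theorem spMap_ofId {P Q : Type u} [CommRing P] [Algebra R P] [CommRing Q] [Algebra R Q] (f : P →ₐ[R] Q)
    {X : Over (Spec (CommRingCat.of R))} (x : sp R R ⟶ X) :
    spMap f ≫ spMap (Algebra.ofId R P) ≫ x = spMap (Algebra.ofId R Q) ≫ x := by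
  rw [← Category.assoc, spMap_comp, show f.comp (Algebra.ofId R P) = Algebra.ofId R Q from Subsingleton.elim _ _]

set_option maxHeartbeats 2000000 in
/-- A point fixed modulo a square zero ideal is congruent to a fixed point. -/
theorem exists_fixed_sq_hopf {A : Type u} [CommRing A] [HopfAlgebra R A] (hA : SGA3b.IsMultType R A) (hJ : J ^ 2 = ⊥)
    (act : sp R A ⊗ G ⟶ G)
    (hact : ∀ (T : Over (Spec (CommRingCat.of R))) (a b : T ⟶ sp R A) (g : T ⟶ G),
      lift (a * b) g ≫ act = lift a (lift b g ≫ act) ≫ act)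
    (x0 : sp R R ⟶ G)
    (h0 : spMap (redHom J A) ≫ lift (𝟙 _) (spMap (Algebra.ofId R A) ≫ x0) ≫ act =
      spMap (redHom J A) ≫ spMap (Algebra.ofId R A) ≫ x0) :
    ∃ c : sp R R ⟶ G, spMap (redHom J R) ≫ c = spMap (redHom J R) ≫ x0 ∧
      lift (𝟙 _) (spMap (Algebra.ofId R A) ≫ c) ≫ act = spMap (Algebra.ofId R A) ≫ c := by
  obtain ⟨mu⟩ := MultTypeLib.exists_mean hA
  let iL : A →ₐ[R] A ⊗[R] A := Algebra.TensorProduct.includeLeft
  let iR : A →ₐ[R] A ⊗[R] A := Algebra.TensorProduct.includeRight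
  let co : A →ₐ[R] A ⊗[R] A := Bialgebra.comulAlgHom R A
  let w0 : sp R A ⟶ G := spMap (Algebra.ofId R A) ≫ x0
  let x : sp R A ⟶ G := lift (𝟙 _) w0 ≫ act
  have hm : ∀ z y, mu.μ (z * Algebra.ofId R A y) = mu.μ z * y := fun z y => by
    rw [Algebra.ofId_apply, mul_comm, ← Algebra.smul_def, map_smul, smul_eq_mul, mul_comm]
  obtain ⟨q, q1, q2⟩ := exists_pairs_hom (j := Algebra.ofId R A) x x0 h0
  let c : sp R R ⟶ G := spMap (hat hJ mu.μ hm mu.map_one') ≫ q
  have hc : IsPush hJ (Algebra.ofId R A) mu.μ hm mu.map_one' x x0 c := ⟨q, q1, q2, rfl⟩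
  refine ⟨c, hc.red_eq, ?_⟩
  have hLj : ∀ z, mu.L (iL z) = z := fun z => by
    rw [← _root_.one_mul (iL z), mu.L_mul, mu.L_one, _root_.one_mul]
  have Pa : IsPush hJ iL mu.L mu.L_mul mu.L_one (spMap co ≫ x) w0 (spMap (Algebra.ofId R A) ≫ c) :=
    hc.mapPair co (Algebra.ofId R A) (fun y => by simp [co, iL, Algebra.ofId_apply]) fun z => by
      show mu.L (co z) = _
      rw [show mu.L (co z) = mu.μ z • (1 : A) from mu.inv z, Algebra.ofId_apply, Algebra.algebraMap_eq_smul_one]
  have Pb : IsPush hJ iL mu.L mu.L_mul mu.L_one (spMap iR ≫ x) w0 (spMap (Algebra.ofId R A) ≫ c) :=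
    hc.mapPair iR (Algebra.ofId R A) (fun y => by simp [iR, iL, Algebra.ofId_apply]) fun z => by
      show mu.L ((1 : A) ⊗ₜ z) = _
      rw [MultTypeLib.Mean.L_tmul, Algebra.ofId_apply, Algebra.algebraMap_eq_smul_one]
  have Ph := isPush_self (hJ := hJ) (j := iL) (hl := mu.L_mul) (hl1 := mu.L_one) (𝟙 (sp R A))
  have P2 := IsPush.map₂ act Ph Pb
  have hz : spMap (redHom J A) ≫ (x⁻¹ * w0) = 1 := by
    rw [MonObj.comp_mul, GrpObj.comp_inv, show spMap (redHom J A) ≫ x = spMap (redHom J A) ≫ w0 from h0,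
      inv_mul_cancel]
  have P3 := P2.mul (isPush_one_left (hJ := hJ) (j := iL) (hl := mu.L_mul) (hl1 := mu.L_one) hLj hz)
  rw [_root_.mul_one, _root_.mul_one, mul_inv_cancel_left, Category.comp_id] at P3
  have e : spMap co ≫ x = lift (spMap iL) (spMap iR ≫ x) ≫ act := by
    simp only [x, ← Category.assoc, comp_lift, Category.comp_id]
    rw [show spMap co = spMap iL * spMap iR from spMap_co, hact]
    congr 2
    simp only [w0, comp_lift, spMap_ofId]
    rw [show spMap iL * spMap iR = spMap co from spMap_co.symm, spMap_ofId]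
  rw [← e] at P3
  exact P3.eq Pa

/-- The point is fixed by every point of the group, universally. -/
def Fixed {S : Scheme.{u}} {H G : Over S} [GrpObj H] (a : AlgGrp.Action H G) {X : Over S} (g : X ⟶ G) : Prop :=
  ∀ (X' : Over S) (f : X' ⟶ X) (h : X' ⟶ H), lift h (f ≫ g) ≫ a.act = f ≫ g

set_option maxHeartbeats 2000000 in
/-- The fixed locus has the infinitesimal lifting property. -/
theorem fixed_lift {S : Scheme.{u}} {H G : Over S} [GrpObj H] [GrpObj G] [Smooth G.hom] (hH : LocDiag H)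
    (a : AlgGrp.Action H G) (R : Type u) [CommRing R] (J : Ideal R) (hJ : J ^ 2 = ⊥)
    (b : Spec (CommRingCat.of R) ⟶ S) (g₀ : pushObj b (red J) ⟶ G) (h0 : Fixed a g₀) :
    ∃ g : pushObj b (𝟙_ (Over (Spec (CommRingCat.of R)))) ⟶ G, Fixed a g ∧
      (Over.map b).map (toUnit (red J)) ≫ g = g₀ := by
  obtain ⟨A, _, _, hA, ⟨eH⟩⟩ := mtHopf_of_locDiag (locDiag_bc' b hH)
  haveI : IsMonHom eH.hom.hom.hom := eH.hom.hom.isMonHom_hom
  have eH1 : eH.inv.hom.hom ≫ eH.hom.hom.hom = 𝟙 _ := congrArg (fun m => m.hom.hom) eH.inv_hom_id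
  let HR := Red.bc b H
  let GR := Red.bc b G
  have hGs : Smooth GR.hom := MorphismProperty.pullback_snd _ _ ‹_›
  let actR : HR ⊗ GR ⟶ GR := thetaInv b (lift (theta b (fst HR GR)) (theta b (snd HR GR)) ≫ a.act)
  have hactR : ∀ {T : Over (Spec (CommRingCat.of R))} (h : T ⟶ HR) (g : T ⟶ GR),
      theta b (lift h g ≫ actR) = lift (theta b h) (theta b g) ≫ a.act := fun h g => by
    rw [theta_comp, theta_thetaInv, ← Category.assoc, comp_lift, ← theta_comp, ← theta_comp, lift_fst, lift_snd]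
  let actA : sp R A ⊗ GR ⟶ GR := lift (fst _ _ ≫ eH.hom.hom.hom) (snd _ _) ≫ actR
  have hactA : ∀ {T : Over (Spec (CommRingCat.of R))} (h : T ⟶ sp R A) (g : T ⟶ GR),
      lift h g ≫ actA = lift (h ≫ eH.hom.hom.hom) g ≫ actR := fun h g => by
    rw [← Category.assoc, comp_lift, ← Category.assoc, lift_fst, lift_snd]
  obtain ⟨g1, hg1⟩ := exists_point_lift (J := J) ⟨2, hJ⟩ hGs (thetaInv b g₀)
  obtain ⟨c, hc0, hc⟩ := exists_fixed_sq_hopf hA hJ actA
    (fun T p q g => (theta_bijective b).injective (by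
      rw [hactA, hactA, hactA, hactR, hactR, hactR, MonObj.mul_comp, theta_mul, action_mul]))
    (toUnit _ ≫ g1) ((theta_bijective b).injective (by
      let p := toRedAlg J A
      have e1 : spMap (redHom J A) ≫ spMap (Algebra.ofId R A) ≫ toUnit (sp R R) ≫ g1 = p ≫ thetaInv b g₀ := by
        rw [← hg1]
        simp only [← Category.assoc]
        congr 1
        exact toUnit_unique _ _
      rw [e1, ← Category.assoc, comp_lift, Category.comp_id, e1, hactA, hactR]
      simp only [theta_comp, theta_thetaInv]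
      exact h0 _ ((Over.map b).map p) _))
  let g : 𝟙_ (Over (Spec (CommRingCat.of R))) ⟶ GR := secOf (AlgHom.id R R) ≫ c
  have hle : J.map (algebraMap R R) ≤ J := by rw [Algebra.algebraMap_self, Ideal.map_id]
  let e : red J ⟶ sp R (Ared J R) := Over.homMk
    (Spec.map (CommRingCat.ofHom (Ideal.Quotient.factor hle))) (by
      show Spec.map _ ≫ Spec.map (CommRingCat.ofHom (algebraMap R (Ared J R))) = Spec.map _
      rw [← Spec.map_comp, ← CommRingCat.ofHom_comp]
      rfl)
  have he : toUnit (red J) ≫ secOf (AlgHom.id R R) = e ≫ spMap (redHom J R) := by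
    refine Over.OverMorphism.ext ?_
    show Spec.map (CommRingCat.ofHom (Ideal.Quotient.mk J)) ≫ Spec.map _ = Spec.map _ ≫ Spec.map _
    rw [← Spec.map_comp, ← Spec.map_comp]
    rfl
  have hg0 : toUnit (red J) ≫ g = thetaInv b g₀ := by
    rw [← Category.assoc, he, Category.assoc, hc0, ← Category.assoc, ← he, Category.assoc,
      ← hg1, comp_toUnit_assoc, comp_toUnit_assoc]
  refine ⟨theta b g, fun X' x h => ?_, by rw [← theta_comp, hg0, theta_thetaInv]⟩
  let Y : Over (Spec (CommRingCat.of R)) := Over.mk x.left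
  have hb : x.left ≫ b = X'.hom := by
    have h1 := Over.w x
    simpa using h1
  let e1 : (Over.map b).obj Y ⟶ X' := Over.homMk (𝟙 _) (by simpa [Y] using hb.symm)
  let e2 : X' ⟶ (Over.map b).obj Y := Over.homMk (𝟙 _) (by simpa [Y] using hb)
  have hee : e2 ≫ e1 = 𝟙 _ := Over.OverMorphism.ext (Category.id_comp _)
  have hx : e1 ≫ x = (Over.map b).map (toUnit Y) := Over.OverMorphism.ext (Category.id_comp _)
  let k : Y ⟶ sp R A := thetaInv b (e1 ≫ h) ≫ eH.inv.hom.hom
  have hu : k ≫ spMap (Algebra.ofId R A) ≫ c = toUnit Y ≫ g := by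
    rw [← comp_toUnit_assoc k g, show toUnit (sp R A) ≫ g = (toUnit (sp R A) ≫ secOf (AlgHom.id R R)) ≫ c from
      (Category.assoc _ _ _).symm, toUnit_secOf]
    rfl
  have := congrArg (fun m => theta b (k ≫ m)) hc
  rw [← Category.assoc, comp_lift, Category.comp_id, hu, hactA, hactR, show k ≫ eH.hom.hom.hom = thetaInv b (e1 ≫ h)
    from by simp only [k, Category.assoc, eH1, Category.comp_id], theta_thetaInv, theta_comp, ← hx, Category.assoc] at this
  have := congrArg (fun m => e2 ≫ m) this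
  simp only [← Category.assoc, comp_lift, hee, Category.id_comp] at this
  simpa only [Category.assoc, reassoc_of% hee] using this

end Groth.Agent.MultTransp18
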