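import Groth.Agent.MultTransp18.SubTransp
import Groth.Agent.GrpSchLib.HomUnitLocus
import Groth.Agent.GrpSchLib.MultTypeComm

/-!
# The centralizer is open and closed in the normalizer
-/

universe u

open CategoryTheory CategoryTheory.Limits MonoidalCategory CartesianMonoidalCategory MonObj AlgebraicGeometry

set_option backward.isDefEq.respectTransparency false
set_option linter.style.haveILetI false
set_option synthInstance.maxHeartbeats 400000
set_option maxHeartbeats 1000000

namespace Groth.Agent.MultTransp18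

open DSPtsLib

/-- A map multiplicative on all points is a homomorphism. -/
theorem isMonHom_of_map_mul {E : Type*} [Category E] [CartesianMonoidalCategory E] {M N : E} [GrpObj M] [GrpObj N]
    (f : M ⟶ N) (h : ∀ (T : E) (a b : T ⟶ M), (a * b) ≫ f = (a ≫ f) * (b ≫ f)) : IsMonHom f := by
  have h1 : (1 : 𝟙_ E ⟶ M) ≫ f = 1 := by
    have := h _ (1 : 𝟙_ E ⟶ M) 1
    rw [_root_.one_mul] at this
    exact mul_eq_left.mp this.symm
  refine { one_hom := ?_, mul_hom := ?_ }
  · simpa only [Hom.one_def, toUnit_unique (toUnit (𝟙_ E)) (𝟙 _), Category.id_comp] using h1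
  · have := h _ (fst M M) (snd M M)
    simp only [Hom.mul_def, lift_fst_snd, Category.id_comp] at this
    rw [this]
    congr 1
    ext <;> simp

variable {S : Scheme.{u}} {H G : Over S} [GrpObj H] [GrpObj G]

/-- The points of the normalizer which centralise form a clopen subscheme. -/
theorem exists_clopen_centralising {N : Over S} (hH : SGA3x.IsMultTypeFT H) (i : H ⟶ G) [IsMonHom i] [Mono i]
    (k : N ⟶ G) (hk : ∀ (X' : Over S) (x : X' ⟶ N) (h : X' ⟶ H),
      ∃ h' : X' ⟶ H, (x ≫ k) * (h ≫ i) * (x ≫ k)⁻¹ = h' ≫ i) :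
    ∃ U : N.left.Opens, IsClosed (U : Set N.left) ∧ ∀ (X : Over S) (x : X ⟶ N),
      (∀ (X' : Over S) (y : X' ⟶ X) (h : X' ⟶ H), (y ≫ x ≫ k) * (h ≫ i) = (h ≫ i) * (y ≫ x ≫ k)) ↔
        ∀ p : X.left, x.left.base p ∈ U := by
  let HN : Over N.left := Red.bc N.hom H
  let A : Over S := (Over.map N.hom).obj HN
  let xA : A ⟶ N := Over.homMk HN.hom rfl
  let hA : A ⟶ H := theta N.hom (𝟙 HN)
  obtain ⟨d, hd⟩ := hk A xA hA
  have hkey : ∀ (Y : Over N.left) (a : Y ⟶ HN),
      (((Over.map N.hom).map a ≫ xA) ≫ k) * (theta N.hom a ≫ i) * (((Over.map N.hom).map a ≫ xA) ≫ k)⁻¹ =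
        ((Over.map N.hom).map a ≫ d) ≫ i := by
    intro Y a
    have := congrArg (fun m => (Over.map N.hom).map a ≫ m) hd
    simp only [MonObj.comp_mul, GrpObj.comp_inv] at this
    rw [← Category.assoc, ← Category.assoc, ← Category.assoc, ← theta_comp, Category.comp_id] at this
    exact this
  let w : A ⟶ H := d * hA⁻¹
  have hx : ∀ (Y : Over N.left) (a b : Y ⟶ HN),
      (Over.map N.hom).map a ≫ xA = (Over.map N.hom).map b ≫ xA := fun Y a b => Over.OverMorphism.ext (by
    show a.left ≫ HN.hom = b.left ≫ HN.hom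
    rw [Over.w a, Over.w b])
  have hw : ∀ (Y : Over N.left) (a b : Y ⟶ HN),
      (Over.map N.hom).map (a * b) ≫ w = ((Over.map N.hom).map a ≫ w) * ((Over.map N.hom).map b ≫ w) := by
    intro Y a b
    have hth : ∀ c : Y ⟶ HN, (Over.map N.hom).map c ≫ hA = theta N.hom c := fun c => by
      rw [← theta_comp, Category.comp_id]
    have hdm : (Over.map N.hom).map (a * b) ≫ d = ((Over.map N.hom).map a ≫ d) * ((Over.map N.hom).map b ≫ d) := by
      rw [← cancel_mono i, MonObj.mul_comp, ← hkey, ← hkey, ← hkey, theta_mul, MonObj.mul_comp, hx Y (a * b) a,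
        hx Y b a]
      group
    simp only [w, MonObj.comp_mul, GrpObj.comp_inv, hth, hdm, theta_mul]
    rw [theta_mul, mul_inv_rev, GrpSchLib.MultTypeComm.points_comm hH (theta N.hom b)⁻¹ (theta N.hom a)⁻¹]
    rw [_root_.mul_assoc, ← _root_.mul_assoc ((Over.map N.hom).map b ≫ d),
      GrpSchLib.MultTypeComm.points_comm hH ((Over.map N.hom).map b ≫ d) (theta N.hom a)⁻¹]
    group
  let u' : HN ⟶ HN := thetaInv N.hom w
  have hu' : ∀ (Y : Over N.left) (a : Y ⟶ HN), theta N.hom (a ≫ u') = (Over.map N.hom).map a ≫ w := fun Y a => by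
    rw [theta_comp, theta_thetaInv]
  haveI : IsMonHom u' := isMonHom_of_map_mul u' fun Y a b => (theta_bijective N.hom).injective (by
    rw [theta_mul, hu', hu', hu', hw])
  haveI : IsAffineHom HN.hom := by
    haveI := (TransLib.multTypeFT_essFree hH).1
    exact MorphismProperty.pullback_snd _ _ inferInstance
  have hHN := GrpSchLib.MultTypeBC.isMultTypeFT_bc N.hom hH
  haveI : IsSeparated HN.hom := inferInstance
  obtain ⟨U, hUc, hUp, hUt⟩ := GrpSchLib.HomUnitLocus.main (u := u') hHN (Or.inr (GrpSchLib.MultTypeLft.lft hHN))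
  -- vanishing of `u'` means centralising
  have htriv : ∀ {X' : Over S} (x : X' ⟶ N) (h : X' ⟶ H) (Y : Over N.left) (e : (Over.map N.hom).obj Y ⟶ X'),
      e ≫ x = Over.homMk Y.hom rfl →
      (thetaInv N.hom (e ≫ h) ≫ u' = 1 ↔ (e ≫ x ≫ k) * (e ≫ h ≫ i) = (e ≫ h ≫ i) * (e ≫ x ≫ k)) := by
    intro X' x h Y e hex
    let a := thetaInv N.hom (e ≫ h)
    have ha : theta N.hom a = e ≫ h := theta_thetaInv _ _
    have e1 : (Over.map N.hom).map a ≫ xA = e ≫ x := by
      rw [hex]; exact Over.OverMorphism.ext (Over.w a)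
    have h1 : theta N.hom (1 : Y ⟶ HN) = 1 := by
      have := theta_mul N.hom (1 : Y ⟶ HN) 1
      rw [_root_.one_mul] at this
      exact mul_eq_left.mp this.symm
    rw [← (theta_bijective N.hom).injective.eq_iff, hu', h1, ← Category.assoc e x, ← Category.assoc e h]
    show (Over.map N.hom).map a ≫ (d * hA⁻¹) = 1 ↔ _
    rw [MonObj.comp_mul, GrpObj.comp_inv, ← theta_comp, Category.comp_id, mul_inv_eq_one, ha, ← cancel_mono i,
      ← hkey, e1, ha, mul_inv_eq_iff_eq_mul]
  refine ⟨U, hUc, fun X x => ⟨fun hX p => ?_, fun hp X' y h => ?_⟩⟩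
  · rw [hUp]
    let κ : Over N.left := Over.mk (X.left.fromSpecResidueField p ≫ x.left)
    have hκ : GrpSchLib.HomUnitLocus.Triv u' κ.hom := fun Y q a => by
      have hq : q.left ≫ X.left.fromSpecResidueField p ≫ x.left = Y.hom := Over.w q
      let e : (Over.map N.hom).obj Y ⟶ X := Over.homMk (q.left ≫ X.left.fromSpecResidueField p) (by
        show (q.left ≫ X.left.fromSpecResidueField p) ≫ X.hom = Y.hom ≫ N.hom
        rw [← hq, ← Over.w x]; simp)
      have hex : e ≫ x = Over.homMk Y.hom rfl := Over.OverMorphism.ext (by simpa [e] using hq)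
      have := (htriv (e ≫ x) (theta N.hom a) Y (𝟙 _) (by rw [Category.id_comp]; exact hex)).mpr (by
        simpa using hX _ e (theta N.hom a))
      rwa [show thetaInv N.hom (𝟙 _ ≫ theta N.hom a) = a from (theta_bijective N.hom).injective (by
        rw [theta_thetaInv, Category.id_comp])] at this
    have e2 := (GrpSchLib.HomUnitLocus.triv_iff_of_field (u := u') κ.hom).mp hκ
    have e3 : κ.hom.base (IsLocalRing.closedPoint (X.left.residueField p)) = x.left.base p := by
      show x.left.base ((X.left.fromSpecResidueField p).base _) = _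
      rw [X.left.fromSpecResidueField_apply]
    exact (congrArg (fun z => GrpSchLib.HomUnitLocus.Triv u' (N.left.fromSpecResidueField z)) e3).mp e2
  · let Y : Over N.left := Over.mk (y ≫ x).left
    let e : (Over.map N.hom).obj Y ⟶ X' := Over.homMk (𝟙 _) ((Category.id_comp _).trans (Over.w (y ≫ x)).symm)
    let e' : X' ⟶ (Over.map N.hom).obj Y := Over.homMk (𝟙 _) ((Category.id_comp _).trans (Over.w (y ≫ x)))
    have hee : e' ≫ e = 𝟙 _ := Over.OverMorphism.ext (Category.id_comp _)
    have hr : Set.range (y ≫ x).left.base ⊆ Set.range U.ι.base := by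
      rintro z ⟨q, rfl⟩
      rw [Scheme.Opens.range_ι]
      exact hp (y.left.base q)
    let q : Y ⟶ Over.mk U.ι := Over.homMk (IsOpenImmersion.lift U.ι (y ≫ x).left hr) (IsOpenImmersion.lift_fac _ _ _)
    have hex : e ≫ y ≫ x = Over.homMk Y.hom rfl := Over.OverMorphism.ext (Category.id_comp _)
    have := (htriv (y ≫ x) h Y e hex).mp (hUt Y q _)
    have := congrArg (fun m => e' ≫ m) this
    simpa only [MonObj.comp_mul, reassoc_of% hee, Category.assoc] using this

end Groth.Agent.MultTransp18
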