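import Groth.Agent.MultTypeLib.Averaging

/-!
# Congruent homomorphisms out of a group with an invariant mean are conjugate by a point congruent to the unit
-/

universe u

open WithConv TensorProduct Coalgebra Bialgebra
open Groth.Agent.MultTypeLib

noncomputable section

namespace Groth.Agent.MultTransp18

attribute [local instance 2000] algConvGroup

variable {R : Type u} [CommRing R] {A : Type u} [CommRing A] [HopfAlgebra R A]
variable {C : Type u} [CommRing C] [HopfAlgebra R C]

/-- A point of the base as a point with values in an algebra. -/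
abbrev basePt {T : Type u} [CommRing T] [Algebra R T] (g : WithConv (C →ₐ[R] R)) : WithConv (C →ₐ[R] T) :=
  convMap (Algebra.ofId R T) g

/-- A homomorphism as a point. -/
abbrev homPt (φ : C →ₐc[R] A) : WithConv (C →ₐ[R] A) := toConv (φ : C →ₐ[R] A)

theorem convMap_basePt {T T' : Type u} [CommRing T] [Algebra R T] [CommRing T'] [Algebra R T'] (h : T →ₐ[R] T')
    (g : WithConv (C →ₐ[R] R)) : convMap h (basePt g) = basePt g := by
  rw [convMap_convMap, Subsingleton.elim (h.comp (Algebra.ofId R T)) (Algebra.ofId R T')]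

theorem comul_homPt (φ : C →ₐc[R] A) : convMap (Bialgebra.comulAlgHom R A) (homPt φ) =
    convMap Algebra.TensorProduct.includeLeft (homPt φ) * convMap Algebra.TensorProduct.includeRight (homPt φ) := by
  refine WithConv.ext (AlgHom.ext fun c => sub_eq_zero.mp ?_)
  have := isHomMod_bialgHom ⊥ φ c
  rw [Submodule.bot_smul, Submodule.mem_bot, ← map_mul] at this
  exact this

/-- Conjugates of homomorphisms by base points are homomorphisms. -/
theorem exists_conj_hom (γ : C →ₐc[R] A) (g : WithConv (C →ₐ[R] R)) :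
    ∃ γ' : C →ₐc[R] A, homPt γ' = basePt g * homPt γ * (basePt g)⁻¹ := by
  have he : IsHomMod ⊥ (basePt g * homPt γ * (basePt g)⁻¹) := by
    intro c
    have h1 : convMap (Bialgebra.comulAlgHom R A) (basePt g * homPt γ * (basePt g)⁻¹) =
        convMap Algebra.TensorProduct.includeLeft (basePt g * homPt γ * (basePt g)⁻¹) *
          convMap Algebra.TensorProduct.includeRight (basePt g * homPt γ * (basePt g)⁻¹) := by
      simp only [map_mul, map_inv, convMap_basePt, comul_homPt]
      group
    rw [h1, map_mul, sub_self]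
    exact zero_mem _
  obtain ⟨γ', hγ'⟩ := exists_bialgHom_of_isHomMod _ he
  exact ⟨γ', WithConv.ext (AlgHom.ext hγ')⟩

set_option maxHeartbeats 2000000 in
/-- One step of conjugation. -/
theorem exists_conj_pt_step [Algebra.FormallySmooth R C] (μ : Mean R A) {K : Ideal R} (hK : IsNilpotent K)
    (β γ : C →ₐc[R] A) (h : ∀ c, γ c - β c ∈ (K • ⊤ : Submodule R A)) :
    ∃ g : WithConv (C →ₐ[R] R), Cong K (lin g) 1 ∧
      Cong (K * K) (lin (homPt β * basePt g)) (lin (basePt g * homPt γ)) := by
  let iL : A →ₐ[R] A ⊗[R] A := Algebra.TensorProduct.includeLeft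
  let iR : A →ₐ[R] A ⊗[R] A := Algebra.TensorProduct.includeRight
  let Δ : A →ₐ[R] A ⊗[R] A := Bialgebra.comulAlgHom R A
  let b : WithConv (C →ₐ[R] A) := homPt β
  let d : WithConv (C →ₐ[R] A) := homPt γ
  have hb : convMap Δ b = convMap iL b * convMap iR b := comul_homPt β
  have hd : convMap Δ d = convMap iL d * convMap iR d := comul_homPt γ
  have hbd : Cong K (lin d) (lin b) := h
  let D : WithConv (C →ₐ[R] A) := b * d⁻¹
  have hD1 : Cong K (lin D) (lin (1 : WithConv (C →ₐ[R] A))) := by
    have := hbd.symm.mul_right (S := lin d⁻¹)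
    rwa [← map_mul, ← map_mul, mul_inv_cancel] at this
  have hD : ∀ c, D.ofConv c - Algebra.ofId R A ((Bialgebra.counitAlgHom R C) c) ∈ (K • ⊤ : Submodule R A) := fun c => by
    have := hD1 c
    simpa using this
  obtain ⟨g, hg, hg1⟩ := exists_lift_of_mean μ.μ (Algebra.ofId R A) (fun x y => by
    rw [Algebra.ofId_apply, mul_comm, ← Algebra.smul_def, map_smul, smul_eq_mul, mul_comm]) μ.map_one' hK
    D.ofConv (Bialgebra.counitAlgHom R C) hD
  let n : WithConv (C →ₗ[R] A) := toConv (Algebra.linearMap R A ∘ₗ μ.μ ∘ₗ D.ofConv.toLinearMap)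
  have hn : lin b * n * lin d⁻¹ = n := by
    have e : convMap Δ D = convMap iL b * convMap iR D * convMap iL d⁻¹ := by
      simp only [D, map_mul, map_inv, hb, hd]
      group
    have e' := congrArg (fun z => toConv (μ.L ∘ₗ (lin z).ofConv)) e
    simp only [map_mul, lin_convMap] at e'
    rw [comp_mul_right μ.L iL.toLinearMap μ.L_mul, comp_mul_left μ.L iL.toLinearMap μ.L_mul] at e'
    have e5 : toConv (μ.L ∘ₗ (iR.toLinearMap ∘ₗ (lin D).ofConv)) = n :=
      WithConv.ext (LinearMap.ext fun c => by
        show μ.L ((1 : A) ⊗ₜ D.ofConv c) = algebraMap R A (μ.μ (D.ofConv c))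
        rw [Mean.L_tmul, Algebra.algebraMap_eq_smul_one])
    have e6 : toConv (μ.L ∘ₗ (Δ.toLinearMap ∘ₗ (lin D).ofConv)) = n :=
      WithConv.ext (LinearMap.ext fun c => by
        show μ.L (comul (D.ofConv c)) = algebraMap R A (μ.μ (D.ofConv c))
        rw [Algebra.algebraMap_eq_smul_one]
        exact μ.inv _)
    rw [e5, e6] at e'
    exact e'.symm
  have hGn : Cong (K * K) (lin (basePt (T := A) g)) n := hg.comp (Algebra.linearMap R A)
  refine ⟨g, fun c => ?_, ?_⟩
  · simpa using hg1 c
  · have h1 : lin b * n = n * lin d := by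
      conv_rhs => rw [← hn, mul_assoc, ← map_mul, inv_mul_cancel, map_one, mul_one]
    rw [map_mul, map_mul]
    exact (hGn.mul_left.trans (h1 ▸ Cong.refl _)).trans hGn.symm.mul_right

/-- Congruent homomorphisms are conjugate by a point congruent to the unit. -/
theorem exists_conj_pt [Algebra.FormallySmooth R C] (μ : Mean R A) {K : Ideal R} (hK : IsNilpotent K)
    (β γ : C →ₐc[R] A) (h : ∀ c, γ c - β c ∈ (K • ⊤ : Submodule R A)) :
    ∃ g : WithConv (C →ₐ[R] R), Cong K (lin g) 1 ∧ homPt β = basePt g * homPt γ * (basePt g)⁻¹ := by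
  have hstep : ∀ k : ℕ, ∃ g : WithConv (C →ₐ[R] R), Cong K (lin g) 1 ∧
      Cong (K ^ 2 ^ k) (lin (homPt β)) (lin (basePt g * homPt γ * (basePt g)⁻¹)) := by
    intro k
    induction k with
    | zero =>
      refine ⟨1, by rw [map_one]; exact Cong.refl _, ?_⟩
      rw [pow_zero, pow_one, show basePt (T := A) (1 : WithConv (C →ₐ[R] R)) = 1 from map_one _, one_mul, inv_one, mul_one]
      exact Cong.symm h
    | succ k ih =>
      obtain ⟨g, hg, hk⟩ := ih
      obtain ⟨γ', hγ'⟩ := exists_conj_hom γ g
      rw [← hγ'] at hk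
      have hle : K ^ 2 ^ k ≤ K := Ideal.pow_le_self (by positivity)
      obtain ⟨g', hg', hk'⟩ := exists_conj_pt_step μ (hK.pow_of_pos (Nat.two_pow_pos k).ne') β γ' (fun c => hk.symm c)
      refine ⟨g' * g, ?_, ?_⟩
      · have := (hg'.mono hle).mul hg
        rwa [one_mul, ← map_mul] at this
      · rw [pow_succ, pow_mul, pow_two]
        have h2 := hk'.mul_right (S := lin (basePt (T := A) g')⁻¹)
        rw [← map_mul, ← map_mul, mul_inv_cancel_right, hγ'] at h2
        have e : basePt (T := A) g' * (basePt g * homPt γ * (basePt g)⁻¹) * (basePt g')⁻¹ =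
            basePt (g' * g) * homPt γ * (basePt (g' * g))⁻¹ := by
          rw [show basePt (T := A) (g' * g) = basePt g' * basePt g from map_mul _ _ _]
          group
        rwa [e] at h2
  obtain ⟨n, hn⟩ := hK
  obtain ⟨g, hg, hk⟩ := hstep n
  refine ⟨g, hg, WithConv.ext (AlgHom.ext fun c => sub_eq_zero.mp ?_)⟩
  have h0 : K ^ 2 ^ n = ⊥ := pow_eq_zero_of_le Nat.lt_two_pow_self.le hn
  rw [h0] at hk
  have := hk c
  rwa [Submodule.bot_smul, Submodule.mem_bot] at this

end Groth.Agent.MultTransp18
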