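import Groth.Agent.MultTransp18.SubTransp
import Groth.Agent.SmoothSecLib.Basic

/-!
# Etale local conjugation
-/

universe u

open CategoryTheory CategoryTheory.Limits MonoidalCategory CartesianMonoidalCategory MonObj AlgebraicGeometry

set_option backward.isDefEq.respectTransparency false
set_option linter.style.haveILetI false
set_option synthInstance.maxHeartbeats 400000
set_option maxHeartbeats 1000000

namespace Groth.Agent.MultTransp18

variable {S : Scheme.{u}}

/-- Over an étale neighbourhood of any point in its image a smooth closed subscheme has a section. -/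
theorem exists_etale_point {T G : Over S} (j : T ⟶ G) [Smooth T.hom] {k : Type u} [Field k]
    (p : Spec (CommRingCat.of k) ⟶ S) (g₀ : Over.mk p ⟶ T) (s : S)
    (hs : ∀ x, p.base x = s) :
    ∃ (S' : Scheme.{u}) (e : S' ⟶ S), Etale e ∧ s ∈ Set.range e.base ∧
      ∃ t : (Over.map e).obj (𝟙_ (Over S')) ⟶ T, True := by
  let x : T.left := g₀.left.base (IsLocalRing.closedPoint k)
  obtain ⟨S', e, s', -, he, hs', h, hh⟩ := SmoothSecLib.exists_etale_section_scheme T.hom x
  refine ⟨S', e, he, ⟨s', hs'.trans ?_⟩, Over.homMk h (hh.trans (Category.id_comp e).symm), trivial⟩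
  have := congrArg (fun m => m.base (IsLocalRing.closedPoint k)) (Over.w g₀)
  exact this.trans (hs _)

theorem geomPt_base (s : S) (x : ↥(Spec (CommRingCat.of (AlgebraicClosure (S.residueField s))))) :
    (Red.geomPt s).base x = s :=
  S.fromSpecResidueField_apply s _

open DSPtsLib in
/-- A point conjugating two homomorphisms, read over the new base. -/
theorem conj_of_homTransp {H G : Over S} [GrpObj H] [GrpObj G] (u v : H ⟶ G) {S' : Scheme.{u}} (e : S' ⟶ S)
    (g : (Over.map e).obj (𝟙_ (Over S')) ⟶ G) (hg : HomTransp u v g) (X : Over S') (h : X ⟶ Red.bc e H) :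
    h ≫ (Over.pullback e).map v =
      (toUnit X ≫ thetaInv e g) * (h ≫ (Over.pullback e).map u) * (toUnit X ≫ thetaInv e g)⁻¹ := by
  apply (theta_bijective e).injective
  rw [theta_conj, theta_comp_map, theta_comp_map, theta_comp, theta_thetaInv]
  exact (hg _ ((Over.map e).map (toUnit X)) (theta e h)).symm

open DSPtsLib in
/-- A point conjugating two subgroups, read over the new base. -/
theorem conjBy_of_subEq {H₁ H₂ G : Over S} [GrpObj G] (i₁ : H₁ ⟶ G) [Mono i₁] (i₂ : H₂ ⟶ G) [Mono i₂]
    {S' : Scheme.{u}} (e : S' ⟶ S) (g : (Over.map e).obj (𝟙_ (Over S')) ⟶ G) (hg : SubEq i₁ i₂ g) :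
    SGA3x.ConjBy ((Over.pullback e).map i₁) ((Over.pullback e).map i₂) (thetaInv e g) := by
  have h12 : ∀ (X : Over S') (a : X ⟶ Red.bc e H₁), ∃ c : X ⟶ Red.bc e H₂,
      (toUnit X ≫ thetaInv e g) * (a ≫ (Over.pullback e).map i₁) * (toUnit X ≫ thetaInv e g)⁻¹ =
        c ≫ (Over.pullback e).map i₂ := fun X a => by
    obtain ⟨k, hk⟩ := (hg _ ((Over.map e).map (toUnit X))).1 (theta e a)
    obtain ⟨c, rfl⟩ := (theta_bijective e).surjective k
    refine ⟨c, (theta_bijective e).injective ?_⟩
    rw [theta_conj, theta_comp_map, theta_comp_map, theta_comp, theta_thetaInv]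
    exact hk
  have h21 : ∀ (X : Over S') (a : X ⟶ Red.bc e H₂), ∃ c : X ⟶ Red.bc e H₁,
      (toUnit X ≫ thetaInv e g)⁻¹ * (a ≫ (Over.pullback e).map i₂) * (toUnit X ≫ thetaInv e g) =
        c ≫ (Over.pullback e).map i₁ := fun X a => by
    obtain ⟨k, hk⟩ := (hg _ ((Over.map e).map (toUnit X))).2 (theta e a)
    obtain ⟨c, rfl⟩ := (theta_bijective e).surjective k
    refine ⟨c, (theta_bijective e).injective ?_⟩
    rw [theta_mul, theta_mul, theta_inv, theta_comp_map, theta_comp_map, theta_comp, theta_thetaInv]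
    exact hk
  obtain ⟨f, hf⟩ := h12 _ (𝟙 _)
  obtain ⟨f', hf'⟩ := h21 _ (𝟙 _)
  rw [Category.id_comp] at hf hf'
  refine ⟨⟨f, f', ?_, ?_⟩, hf⟩
  · rw [← cancel_mono ((Over.pullback e).map i₁), Category.id_comp, Category.assoc, ← hf']
    simp only [MonObj.comp_mul, GrpObj.comp_inv, comp_toUnit_assoc]
    rw [← hf]
    group
  · rw [← cancel_mono ((Over.pullback e).map i₂), Category.id_comp, Category.assoc, ← hf]
    simp only [MonObj.comp_mul, GrpObj.comp_inv, comp_toUnit_assoc]
    rw [← hf']
    group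

end Groth.Agent.MultTransp18
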