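import Groth.Agent.MultTransp18.InfFixed
import Groth.Agent.MultTransp18.SubTransp

/-!
# Fixed loci of groups of multiplicative type acting on smooth separated groups
-/

universe u

open CategoryTheory CategoryTheory.Limits MonoidalCategory CartesianMonoidalCategory MonObj AlgebraicGeometry

set_option backward.isDefEq.respectTransparency false
set_option linter.style.haveILetI false
set_option synthInstance.maxHeartbeats 400000
set_option maxHeartbeats 1000000

namespace Groth.Agent.MultTransp18

/-- The fixed locus is a smooth closed subgroup. -/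
theorem exists_fixed_smooth {S : Scheme.{u}} {H G : Over S} [GrpObj H] [GrpObj G] (hH : SGA3x.IsMultTypeFT H)
    [IsSeparated G.hom] [Smooth G.hom] (a : AlgGrp.Action H G)
    (hmul : ∀ (X : Over S) (h : X ⟶ H) (g g' : X ⟶ G),
      lift h (g * g') ≫ a.act = (lift h g ≫ a.act) * (lift h g' ≫ a.act)) :
    ∃ (Z : Over S) (_ : GrpObj Z) (z : Z ⟶ G) (_ : IsMonHom z), IsClosedImmersion z.left ∧ Smooth Z.hom ∧
      ∀ (X : Over S) (g : X ⟶ G), (∃ x : X ⟶ Z, x ≫ z = g) ↔
        ∀ (X' : Over S) (f : X' ⟶ X) (h : X' ⟶ H), lift h (f ≫ g) ≫ a.act = f ≫ g := by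
  obtain ⟨hHa, hHe⟩ := TransLib.multTypeFT_essFree hH
  haveI := isClosedImmersion_diag (G := G)
  obtain ⟨T, j, hj, hfp, hT⟩ := TransLib.exists_closed_universal_essFree (X := G) hHe
    (lift a.act (snd H G)) (lift (𝟙 G) (𝟙 G))
  haveI : LocallyOfFinitePresentation j.left := hfp inferInstance (lfp_diag_of (G := G))
  have hT' : ∀ (X : Over S) (g : X ⟶ G), (∃ t : X ⟶ T, t ≫ j = g) ↔ Fixed a g := fun X g =>
    (hT g).trans ⟨fun ⟨l, hl⟩ X' f h => by
      have h1 := congrArg (fun m => lift h f ≫ m ≫ fst G G) hl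
      have h2 := congrArg (fun m => lift h f ≫ m ≫ snd G G) hl
      simp [lift_whiskerLeft_assoc] at h1 h2
      rw [← h1, ← h2], fun hg => by
      refine ⟨(H ◁ g) ≫ snd H G, ?_⟩
      have h' := hg (H ⊗ X) (snd H X) (fst H X)
      apply CartesianMonoidalCategory.hom_ext
      · simp only [Category.assoc, lift_fst, Category.comp_id]
        rw [show H ◁ g = lift (fst H X) (snd H X ≫ g) from by apply CartesianMonoidalCategory.hom_ext <;> simp, h',
          lift_snd]
      · simp⟩
  haveI : Mono j := Over.mono_of_mono_left j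
  have h1 : ∀ {X : Over S} (h : X ⟶ H), lift h (1 : X ⟶ G) ≫ a.act = 1 := fun h => by
    have := hmul _ h 1 1
    rw [_root_.one_mul] at this
    exact mul_eq_left.mp this.symm
  obtain ⟨str, hstr⟩ := exists_subgroup j (fun _ g => Fixed a g) hT'
    (fun X' f h => by rw [MonObj.comp_one, h1])
    (fun X p q hp hq X' f h => by rw [MonObj.comp_mul, hmul, hp X' f h, hq X' f h])
    (fun X p hp X' f h => by
      rw [GrpObj.comp_inv]
      refine eq_inv_of_mul_eq_one_left ?_
      conv_lhs => arg 2; rw [← hp X' f h]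
      rw [← hmul, inv_mul_cancel, h1])
  exact ⟨T, str, j, hstr, hj, smooth_of_lift j (fun _ g => Fixed a g) hT'
    (fun R _ J hJ b g₀ h0 => fixed_lift (locDiag_of_multTypeFT hH) a R J hJ b g₀ h0), hT'⟩

end Groth.Agent.MultTransp18
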