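import Groth.Agent.MultTransp18.LocAffine
import Groth.Agent.MultTypeLib.MultNil
import Mathlib.RingTheory.Bialgebra.TensorProduct

/-!
# Homomorphisms between groups of multiplicative type lift along nilpotent ideals
-/

universe u

open CategoryTheory CategoryTheory.Limits MonoidalCategory CartesianMonoidalCategory MonObj AlgebraicGeometry
open TensorProduct
open Groth.Agent.GrpSchLib.AffineHopf

set_option backward.isDefEq.respectTransparency false
set_option linter.style.haveILetI false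
set_option synthInstance.maxHeartbeats 400000
set_option maxHeartbeats 1000000

namespace Groth.Agent.MultTransp18

variable {R : Type u} [CommRing R]

/-- The reduction map on spectra. -/
noncomputable abbrev qMap (J : Ideal R) : Spec (CommRingCat.of (R ⧸ J)) ⟶ Spec (CommRingCat.of R) :=
  Spec.map (CommRingCat.ofHom (Ideal.Quotient.mk J))

/-- Reduction of an affine group. -/
theorem exists_bc_sp_iso (J : Ideal R) (T : Type u) [CommRing T] [HopfAlgebra R T] :
    ∃ e : Grp.mk (Red.bc (qMap J) (sp R T)) ≅ Grp.mk (sp (R ⧸ J) ((R ⧸ J) ⊗[R] T)),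
      e.hom.hom.hom.left ≫ Spec.map (CommRingCat.ofHom
        (Algebra.TensorProduct.includeRight : T →ₐ[R] (R ⧸ J) ⊗[R] T).toRingHom) = pullback.fst (sp R T).hom (qMap J) := by
  let g : Red.bc (Spec.map (CommRingCat.ofHom (algebraMap R (R ⧸ J)))) (sp R T) ⟶ sp (R ⧸ J) ((R ⧸ J) ⊗[R] T) :=
    (pullbackSymmetry .. ≪≫ pullbackSpecIso' R (R ⧸ J) T).hom.asOver (Spec (CommRingCat.of (R ⧸ J)))
  haveI : IsMonHom g := inferInstanceAs (IsMonHom
    ((pullbackSymmetry .. ≪≫ pullbackSpecIso' R (R ⧸ J) T).hom.asOver (Spec (CommRingCat.of (R ⧸ J)))))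
  haveI : IsIso g.left := inferInstanceAs (IsIso (pullbackSymmetry .. ≪≫ pullbackSpecIso' R (R ⧸ J) T).hom)
  haveI : IsIso ((Over.forget _).map g) := ‹IsIso g.left›
  haveI : IsIso g := isIso_of_reflects_iso g (Over.forget _)
  refine ⟨Grp.mkIso' (asIso g), ?_⟩
  show ((pullbackSymmetry _ _).hom ≫ (pullbackSpecIso R (R ⧸ J) T).hom) ≫ _ = _
  rw [Category.assoc]
  erw [pullbackSpecIso_hom_snd]
  exact pullbackSymmetry_hom_comp_snd _ _

/-- A homomorphism between reductions of groups of multiplicative type lifts. -/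
theorem exists_hom_lift {J : Ideal R} (hJ : IsNilpotent J) (H H' : Over (Spec (CommRingCat.of R))) [GrpObj H]
    [GrpObj H'] (hH : LocDiag H) (hH' : LocDiag H') (ψ₀ : Red.bc (qMap J) H ⟶ Red.bc (qMap J) H') [IsMonHom ψ₀] :
    ∃ ψ : H ⟶ H', IsMonHom ψ ∧ (Over.pullback (qMap J)).map ψ = ψ₀ := by
  haveI : IsAffineHom H.hom := isAffineHom_of_locDiag hH
  haveI : IsAffineHom H'.hom := isAffineHom_of_locDiag hH'
  haveI : IsAffine H.left := isAffine_of_isAffineHom H.hom
  haveI : IsAffine H'.left := isAffine_of_isAffineHom H'.hom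
  obtain ⟨A, _, _, ⟨eH⟩⟩ := exists_hopf H
  obtain ⟨A', _, _, ⟨eH'⟩⟩ := exists_hopf H'
  haveI : IsMonHom eH.inv.hom.hom := eH.inv.hom.isMonHom_hom
  haveI : IsMonHom eH'.hom.hom.hom := eH'.hom.hom.isMonHom_hom
  haveI : IsMonHom eH.hom.hom.hom := eH.hom.hom.isMonHom_hom
  haveI : IsMonHom eH'.inv.hom.hom := eH'.inv.hom.isMonHom_hom
  obtain ⟨e, he⟩ := exists_bc_sp_iso J A
  obtain ⟨e', he'⟩ := exists_bc_sp_iso J A'
  haveI : IsMonHom e.inv.hom.hom := e.inv.hom.isMonHom_hom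
  haveI : IsMonHom e'.hom.hom.hom := e'.hom.hom.isMonHom_hom
  obtain ⟨φ₀, hφ₀⟩ := exists_bialgHom (e.inv.hom.hom ≫ (Over.pullback (qMap J)).map eH.hom.hom.hom ≫ ψ₀ ≫
    (Over.pullback (qMap J)).map eH'.inv.hom.hom ≫ e'.hom.hom.hom)
  obtain ⟨φ, hφ⟩ := MultTypeLib.exists_bialgHom_lift_nil hJ (isMultType_of_locDiag eH' hH')
    (isMultType_of_locDiag eH hH) φ₀
  refine ⟨eH.inv.hom.hom ≫ spMap (φ : A' →ₐ[R] A) ≫ eH'.hom.hom.hom, inferInstance, ?_⟩
  have key : (Over.pullback (qMap J)).map (spMap (φ : A' →ₐ[R] A)) =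
      (Over.pullback (qMap J)).map eH.hom.hom.hom ≫ ψ₀ ≫ (Over.pullback (qMap J)).map eH'.inv.hom.hom := by
    have e1 : e.hom.hom.hom ≫ spMap (φ₀ : (R ⧸ J) ⊗[R] A' →ₐ[R ⧸ J] (R ⧸ J) ⊗[R] A) ≫ e'.inv.hom.hom =
        (Over.pullback (qMap J)).map eH.hom.hom.hom ≫ ψ₀ ≫ (Over.pullback (qMap J)).map eH'.inv.hom.hom := by
      rw [← hφ₀]
      have a1 : e.hom.hom.hom ≫ e.inv.hom.hom = 𝟙 _ := congrArg (fun m => m.hom.hom) e.hom_inv_id
      have a2 : e'.hom.hom.hom ≫ e'.inv.hom.hom = 𝟙 _ := congrArg (fun m => m.hom.hom) e'.hom_inv_id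
      simp only [Category.assoc, reassoc_of% a1, a2, Category.comp_id]
    rw [← e1]
    haveI : IsIso e'.hom.hom.hom :=
      ⟨e'.inv.hom.hom, congrArg (fun m => m.hom.hom) e'.hom_inv_id, congrArg (fun m => m.hom.hom) e'.inv_hom_id⟩
    have a3 : e'.inv.hom.hom ≫ e'.hom.hom.hom = 𝟙 _ := congrArg (fun m => m.hom.hom) e'.inv_hom_id
    have hm : Mono e'.hom.hom.hom := @IsIso.mono_of_iso _ _ _ _ _ ‹_›
    refine hm.right_cancellation _ _ ?_
    rw [Category.assoc, Category.assoc, a3, Category.comp_id]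
    -- compare the projections
    refine Over.OverMorphism.ext ?_
    let incl := Spec.map (CommRingCat.ofHom
        (Algebra.TensorProduct.includeRight : A' →ₐ[R] (R ⧸ J) ⊗[R] A').toRingHom)
    have hz : ∀ {X : Over (Spec (CommRingCat.of (R ⧸ J)))} (a b : X ⟶ sp (R ⧸ J) ((R ⧸ J) ⊗[R] A')),
        a.left ≫ incl = b.left ≫ incl → a.left = b.left := by
      intro X a b h
      have a4 : e'.inv.hom.hom.left ≫ e'.hom.hom.hom.left = 𝟙 _ := congrArg CommaMorphism.left a3
      have h1 : a.left ≫ e'.inv.hom.hom.left = b.left ≫ e'.inv.hom.hom.left := by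
        refine pullback.hom_ext ?_ ?_
        · rw [Category.assoc, Category.assoc, ← he', reassoc_of% a4]
          exact h
        · rw [Category.assoc, Category.assoc, show e'.inv.hom.hom.left ≫ pullback.snd _ _ = _ from Over.w e'.inv.hom.hom,
            Over.w a, Over.w b]
      have := congrArg (· ≫ e'.hom.hom.hom.left) h1
      simpa [Category.assoc, a4] using this
    refine hz _ _ ?_
    show (((Over.pullback (qMap J)).map (spMap (φ : A' →ₐ[R] A))).left ≫ e'.hom.hom.hom.left) ≫ incl = _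
    rw [Category.assoc, he']
    show ((Over.pullback (qMap J)).map (spMap (φ : A' →ₐ[R] A))).left ≫ pullback.fst _ _ =
      (e.hom.hom.hom.left ≫ Spec.map _) ≫ Spec.map _
    rw [Category.assoc, ← Spec.map_comp]
    have e5 : CommRingCat.ofHom (Algebra.TensorProduct.includeRight : A' →ₐ[R] (R ⧸ J) ⊗[R] A').toRingHom ≫
        CommRingCat.ofHom (φ₀ : (R ⧸ J) ⊗[R] A' →ₐ[R ⧸ J] (R ⧸ J) ⊗[R] A).toRingHom =
        CommRingCat.ofHom (φ : A' →ₐ[R] A).toRingHom ≫
          CommRingCat.ofHom (Algebra.TensorProduct.includeRight : A →ₐ[R] (R ⧸ J) ⊗[R] A).toRingHom :=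
      CommRingCat.hom_ext (RingHom.ext fun c => hφ c)
    rw [e5, Spec.map_comp, ← Category.assoc, he]
    simp
    rfl
  simp only [Functor.map_comp, key, Category.assoc]
  have b1 : eH.inv.hom.hom ≫ eH.hom.hom.hom = 𝟙 _ := congrArg (fun m => m.hom.hom) eH.inv_hom_id
  have b2 : eH'.inv.hom.hom ≫ eH'.hom.hom.hom = 𝟙 _ := congrArg (fun m => m.hom.hom) eH'.inv_hom_id
  rw [← Category.assoc ((Over.pullback (qMap J)).map eH.inv.hom.hom), ← Functor.map_comp, ← Functor.map_comp,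
    b1, b2, CategoryTheory.Functor.map_id, CategoryTheory.Functor.map_id, Category.id_comp, Category.comp_id]

end Groth.Agent.MultTransp18
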