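import Groth.Agent.MultTransp18.Push

/-!
# Congruent homomorphisms to an arbitrary group are conjugate, for square zero ideals
-/

universe u

open CategoryTheory CategoryTheory.Limits MonoidalCategory CartesianMonoidalCategory MonObj AlgebraicGeometry
open TensorProduct
open Groth.Agent.GrpSchLib.AffineHopf

set_option backward.isDefEq.respectTransparency false
set_option linter.style.haveILetI false
set_option synthInstance.maxHeartbeats 400000
set_option maxHeartbeats 1000000

namespace Groth.Agent.MultTransp18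

variable {R : Type u} [CommRing R] {J : Ideal R} {G : Over (Spec (CommRingCat.of R))} [GrpObj G]

/-- A push forward along the base point changes along a map into a bigger pair of algebras. -/
theorem IsPush.ofBase {A B A₀ : Type u} [CommRing A] [Algebra R A] [CommRing B] [Algebra R B] [CommRing A₀]
    [Algebra R A₀] {hJ : J ^ 2 = ⊥} {m : A →ₗ[R] R} {hm : ∀ x y, m (x * Algebra.ofId R A y) = m x * y}
    {hm1 : m 1 = 1} {j : A₀ →ₐ[R] B} {l : B →ₗ[R] A₀} {hl : ∀ x y, l (x * j y) = l x * y} {hl1 : l 1 = 1}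
    (f : A →ₐ[R] B) (hf : ∀ z, l (f z) = algebraMap R A₀ (m z)) {x : sp R A ⟶ G} {n : sp R R ⟶ G}
    (h : IsPush hJ (Algebra.ofId R A) m hm hm1 x 1 n) :
    IsPush hJ j l hl hl1 (spMap f ≫ x) 1 (spMap (Algebra.ofId R A₀) ≫ n) := by
  obtain ⟨q, q1, q2, q3⟩ := h
  let s : Pairs J (Algebra.ofId R A) →ₐ[R] Pairs J j :=
    pairsLift (f.comp (pB J _)) ((Algebra.ofId R A₀).comp (pA J _)) fun z => by
      have h1 : pB J (Algebra.ofId R A) z - Algebra.ofId R A (pA J _ z) ∈ (J • ⊤ : Submodule R A) := by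
        rw [Ideal.smul_top_eq_map]; exact pairs_sub_mem z
      have h2 := MultTypeLib.map_smul_top f.toLinearMap h1
      rw [Ideal.smul_top_eq_map] at h2
      simpa [map_sub, Algebra.ofId_apply] using h2
  refine ⟨spMap s ≫ q, ?_, ?_, ?_⟩
  all_goals rw [← Category.assoc, spMap_comp]
  · rw [show (pB J j).comp s = f.comp (pB J _) from rfl, ← spMap_comp, Category.assoc, q1]
  · rw [show (pA J j).comp s = (Algebra.ofId R A₀).comp (pA J _) from rfl, ← spMap_comp, Category.assoc, q2,
      MonObj.comp_one]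
  · rw [show (hat hJ l hl hl1).comp s = (Algebra.ofId R A₀).comp (hat hJ m hm hm1) from AlgHom.ext fun z => hf _,
      ← spMap_comp, Category.assoc, q3]

/-- Homomorphisms congruent modulo a square zero ideal are conjugate by a point congruent to the unit. -/
theorem exists_conj_sq_hopf {A : Type u} [CommRing A] [HopfAlgebra R A] (hA : SGA3b.IsMultType R A) (hJ : J ^ 2 = ⊥)
    (u v : sp R A ⟶ G) [IsMonHom u] [IsMonHom v] (h0 : spMap (redHom J A) ≫ u = spMap (redHom J A) ≫ v) :
    ∃ n : sp R R ⟶ G, spMap (redHom J R) ≫ n = 1 ∧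
      v = (spMap (Algebra.ofId R A) ≫ n) * u * (spMap (Algebra.ofId R A) ≫ n)⁻¹ := by
  obtain ⟨mu⟩ := MultTypeLib.exists_mean hA
  let D : sp R A ⟶ G := v * u⁻¹
  have hD : spMap (redHom J A) ≫ D = 1 := by
    simp only [D, MonObj.comp_mul, GrpObj.comp_inv, h0, mul_inv_cancel]
  let iL : A →ₐ[R] A ⊗[R] A := Algebra.TensorProduct.includeLeft
  let iR : A →ₐ[R] A ⊗[R] A := Algebra.TensorProduct.includeRight
  let co : A →ₐ[R] A ⊗[R] A := Bialgebra.comulAlgHom R A
  have hco : spMap co = spMap iL * spMap iR := by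
    rw [spMap_mul]
    congr 1
    refine AlgHom.ext fun a => ?_
    rw [AlgHom.convMul_apply]
    show Coalgebra.comul (R := R) a = _
    generalize Coalgebra.comul (R := R) a = z
    induction z using TensorProduct.induction_on with
    | zero => simp
    | add p q hp hq => simp only [map_add]; exact congrArg₂ (· + ·) hp hq
    | tmul p q => simp [iL, iR]
  have hm : ∀ x y, mu.μ (x * Algebra.ofId R A y) = mu.μ x * y := fun x y => by
    rw [Algebra.ofId_apply, mul_comm, ← Algebra.smul_def, map_smul, smul_eq_mul, mul_comm]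
  obtain ⟨q, q1, q2⟩ := exists_pairs_hom (j := Algebra.ofId R A) D (1 : sp R R ⟶ G) (by
    rw [hD, MonObj.comp_one, MonObj.comp_one])
  let n : sp R R ⟶ G := spMap (hat hJ mu.μ hm mu.map_one') ≫ q
  have hn : IsPush hJ (Algebra.ofId R A) mu.μ hm mu.map_one' D 1 n := ⟨q, q1, q2, rfl⟩
  refine ⟨n, by rw [hn.red_eq, MonObj.comp_one], ?_⟩
  let nA : sp R A ⟶ G := spMap (Algebra.ofId R A) ≫ n
  have hLj : ∀ z, mu.L (iL z) = z := fun z => by
    rw [← _root_.one_mul (iL z), mu.L_mul, mu.L_one, _root_.one_mul]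
  have P1 : IsPush hJ iL mu.L mu.L_mul mu.L_one (spMap iL ≫ D) 1 D := by
    have a1 := isPush_self (hJ := hJ) (j := iL) (hl := mu.L_mul) (hl1 := mu.L_one) D
    have a2 := isPush_one_left (hJ := hJ) (j := iL) (hl := mu.L_mul) (hl1 := mu.L_one) hLj hD
    simpa using a1.mul a2.inv
  have P2 := isPush_self (hJ := hJ) (j := iL) (hl := mu.L_mul) (hl1 := mu.L_one) u
  have P3 : IsPush hJ iL mu.L mu.L_mul mu.L_one (spMap iR ≫ D) 1 nA := hn.ofBase iR fun z => by
    show mu.L ((1 : A) ⊗ₜ z) = _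
    rw [MultTypeLib.Mean.L_tmul, Algebra.algebraMap_eq_smul_one]
  have P4 : IsPush hJ iL mu.L mu.L_mul mu.L_one (spMap co ≫ D) 1 nA := hn.ofBase co fun z => by
    rw [Algebra.algebraMap_eq_smul_one]
    exact mu.inv z
  have e : spMap co ≫ D = (spMap iL ≫ D) * (spMap iL ≫ u) * (spMap iR ≫ D) * (spMap iL ≫ u)⁻¹ := by
    simp only [D, MonObj.comp_mul, GrpObj.comp_inv]
    rw [hco, MonObj.mul_comp, MonObj.mul_comp]
    group
  have P5 := ((P1.mul P2).mul P3).mul P2.inv
  rw [← e, _root_.one_mul, _root_.mul_one, mul_inv_cancel] at P5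
  have key : nA = D * u * nA * u⁻¹ := P4.eq P5
  show v = nA * u * nA⁻¹
  conv_rhs => arg 1; rw [key]
  simp only [D]
  group

end Groth.Agent.MultTransp18
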