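import Groth.Agent.MultTransp18.InfConj
import Groth.Agent.MultTransp18.LocAffine
import Groth.Agent.MultTransp18.Transp
import Groth.Agent.MorLib.FormallyEtaleHom
import Groth.Agent.S1488

/-!
# Congruent homomorphisms are conjugate: arbitrary groups for square zero ideals, smooth groups for nilpotent ones
-/

universe u

open CategoryTheory CategoryTheory.Limits MonoidalCategory CartesianMonoidalCategory MonObj AlgebraicGeometry
open Groth.Agent.GrpSchLib.AffineHopf

set_option backward.isDefEq.respectTransparency false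
set_option linter.style.haveILetI false
set_option synthInstance.maxHeartbeats 400000
set_option maxHeartbeats 1000000

namespace Groth.Agent.MultTransp18

variable {R : Type u} [CommRing R]

/-- The two homomorphisms agree on points defined over the reduction. -/
def AgreeMod (J : Ideal R) {H G : Over (Spec (CommRingCat.of R))} (u v : H ⟶ G) : Prop :=
  ∀ (X : Over (Spec (CommRingCat.of R))) (_ : X ⟶ red J) (h : X ⟶ H), h ≫ u = h ≫ v

/-- Square zero ideals, arbitrary group. -/
theorem exists_conj_sq {J : Ideal R} (hJ : J ^ 2 = ⊥) {H G : Over (Spec (CommRingCat.of R))} [GrpObj H] [GrpObj G]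
    (hH : LocDiag H) (u v : H ⟶ G) [IsMonHom u] [IsMonHom v] (h0 : AgreeMod J u v) :
    ∃ g : 𝟙_ (Over (Spec (CommRingCat.of R))) ⟶ G, toUnit (red J) ≫ g = 1 ∧
      ∀ (X : Over (Spec (CommRingCat.of R))) (h : X ⟶ H), h ≫ v = (toUnit X ≫ g) * (h ≫ u) * (toUnit X ≫ g)⁻¹ := by
  haveI : IsAffineHom H.hom := isAffineHom_of_locDiag hH
  haveI : IsAffine H.left := isAffine_of_isAffineHom H.hom
  obtain ⟨A, _, _, ⟨eH⟩⟩ := exists_hopf H
  haveI : IsMonHom eH.hom.hom.hom := eH.hom.hom.isMonHom_hom
  have eH1 : eH.inv.hom.hom ≫ eH.hom.hom.hom = 𝟙 _ := congrArg (fun m => m.hom.hom) eH.inv_hom_id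
  obtain ⟨n, hn, hnv⟩ := exists_conj_sq_hopf (isMultType_of_locDiag eH hH) hJ (eH.hom.hom.hom ≫ u)
    (eH.hom.hom.hom ≫ v) (by
      have := h0 _ (toRed J) (spMap (redHom J A) ≫ eH.hom.hom.hom)
      simpa using this)
  refine ⟨secOf (AlgHom.id R R) ≫ n, ?_, fun X h => ?_⟩
  · have hle : J.map (algebraMap R R) ≤ J := by rw [Algebra.algebraMap_self, Ideal.map_id]
    let e : red J ⟶ sp R (Ared J R) := Over.homMk
      (Spec.map (CommRingCat.ofHom (Ideal.Quotient.factor hle))) (by
        show Spec.map _ ≫ Spec.map (CommRingCat.ofHom (algebraMap R (Ared J R))) = Spec.map _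
        rw [← Spec.map_comp, ← CommRingCat.ofHom_comp]
        rfl)
    have he : toUnit (red J) ≫ secOf (AlgHom.id R R) = e ≫ spMap (redHom J R) := by
      refine Over.OverMorphism.ext ?_
      show Spec.map (CommRingCat.ofHom (Ideal.Quotient.mk J)) ≫ Spec.map _ = Spec.map _ ≫ Spec.map _
      rw [← Spec.map_comp, ← Spec.map_comp]
      rfl
    rw [← Category.assoc, he, Category.assoc, hn, MonObj.comp_one]
  · have e0 : spMap (Algebra.ofId R A) ≫ n = toUnit (sp R A) ≫ secOf (AlgHom.id R R) ≫ n := by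
      rw [← Category.assoc, toUnit_secOf]
      rfl
    rw [e0] at hnv
    have := congrArg (fun m => h ≫ eH.inv.hom.hom ≫ m) hnv
    simp only [MonObj.comp_mul, GrpObj.comp_inv, comp_toUnit_assoc, reassoc_of% eH1] at this
    exact this

/-- Points of smooth schemes lift along nilpotent ideals. -/
theorem exists_lift_nil {X Y : Scheme.{u}} (f : X ⟶ Y) (hf : MoreMor.IsFormallySmoothHom f) (n : ℕ) :
    ∀ (A : Type u) [CommRing A] (I : Ideal A), I ^ n = ⊥ → ∀ (a : Spec (CommRingCat.of (A ⧸ I)) ⟶ X)
      (b : Spec (CommRingCat.of A) ⟶ Y), Spec.map (CommRingCat.ofHom (Ideal.Quotient.mk I)) ≫ b = a ≫ f →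
      ∃ l : Spec (CommRingCat.of A) ⟶ X, Spec.map (CommRingCat.ofHom (Ideal.Quotient.mk I)) ≫ l = a ∧ l ≫ f = b := by
  induction n using Nat.strong_induction_on with
  | _ n ih =>
    intro A _ I hI a b w
    by_cases hn : n ≤ 2
    · exact hf A I (pow_eq_zero_of_le hn hI) a b w
    · have hle : I ^ 2 ≤ I := Ideal.pow_le_self two_ne_zero
      let K : Ideal (A ⧸ I ^ 2) := I.map (Ideal.Quotient.mk (I ^ 2))
      let e := DoubleQuot.quotQuotEquivQuotOfLE hle
      have hK : K ^ 2 = ⊥ := by rw [← Ideal.map_pow, Ideal.map_quotient_self]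
      have e0 : Spec.map (CommRingCat.ofHom e.toRingHom) ≫ Spec.map (CommRingCat.ofHom (Ideal.Quotient.mk K)) =
          Spec.map (CommRingCat.ofHom (Ideal.Quotient.factor hle)) := by
        rw [← Spec.map_comp, ← CommRingCat.ofHom_comp]
        congr 2
        refine Ideal.Quotient.ringHom_ext (RingHom.ext fun x => ?_)
        show e (DoubleQuot.quotQuotMk (I ^ 2) I x) = _
        rw [DoubleQuot.quotQuotEquivQuotOfLE_quotQuotMk]
        rfl
      have e1 : Spec.map (CommRingCat.ofHom (Ideal.Quotient.factor hle)) ≫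
          Spec.map (CommRingCat.ofHom (Ideal.Quotient.mk (I ^ 2))) = Spec.map (CommRingCat.ofHom (Ideal.Quotient.mk I)) := by
        rw [← Spec.map_comp, ← CommRingCat.ofHom_comp, Ideal.Quotient.factor_comp_mk]
      haveI : IsIso (Spec.map (CommRingCat.ofHom e.toRingHom)) :=
        inferInstanceAs (IsIso (Spec.map e.toCommRingCatIso.hom))
      obtain ⟨l₁, hl₁, hl₁'⟩ := hf _ K hK (inv (Spec.map (CommRingCat.ofHom e.toRingHom)) ≫ a)
        (Spec.map (CommRingCat.ofHom (Ideal.Quotient.mk (I ^ 2))) ≫ b) (by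
          rw [← cancel_epi (Spec.map (CommRingCat.ofHom e.toRingHom)), Category.assoc, IsIso.hom_inv_id_assoc,
            reassoc_of% e0, reassoc_of% e1, w])
      obtain ⟨l, hl, hl'⟩ := ih ((n + 1) / 2) (by omega) A (I ^ 2)
        (by rw [← pow_mul]; exact pow_eq_zero_of_le (by omega) hI) l₁ b hl₁'.symm
      refine ⟨l, ?_, hl'⟩
      rw [← e1, Category.assoc, hl, ← e0, Category.assoc, hl₁, IsIso.hom_inv_id_assoc]

/-- Sections of smooth groups lift along nilpotent ideals. -/
theorem exists_point_lift {J : Ideal R} (hJ : IsNilpotent J) {G : Over (Spec (CommRingCat.of R))} (hG : Smooth G.hom)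
    (g₀ : red J ⟶ G) : ∃ g : 𝟙_ (Over (Spec (CommRingCat.of R))) ⟶ G, toUnit (red J) ≫ g = g₀ := by
  obtain ⟨n, hn⟩ := hJ
  obtain ⟨l, hl, hl'⟩ := exists_lift_nil G.hom ((S1488.result G.hom).mp hG).2 n R J hn g₀.left (𝟙 _)
    (by rw [Category.comp_id]; exact (Over.w g₀).symm)
  exact ⟨Over.homMk l hl', Over.OverMorphism.ext hl⟩

open DSPtsLib in
set_option maxHeartbeats 2000000 in
/-- Nilpotent ideals, smooth group, congruent homomorphisms. -/
theorem exists_conj_nil (n : ℕ) :
    ∀ (K : Ideal R), K ^ n = ⊥ → ∀ {H G : Over (Spec (CommRingCat.of R))} [GrpObj H] [GrpObj G],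
      LocDiag H → Smooth G.hom → ∀ (u v : H ⟶ G) [IsMonHom u] [IsMonHom v], AgreeMod K u v →
      ∃ g : 𝟙_ (Over (Spec (CommRingCat.of R))) ⟶ G, toUnit (red K) ≫ g = 1 ∧
        ∀ (X : Over (Spec (CommRingCat.of R))) (h : X ⟶ H),
          h ≫ v = (toUnit X ≫ g) * (h ≫ u) * (toUnit X ≫ g)⁻¹ := by
  induction n using Nat.strong_induction_on with
  | _ n ih =>
    intro K hK H G _ _ hH hG u v _ _ h0
    by_cases hn : n ≤ 2
    · exact exists_conj_sq (pow_eq_zero_of_le hn hK) hH u v h0
    · have hle : K ^ 2 ≤ K := Ideal.pow_le_self two_ne_zero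
      let R' : Type u := R ⧸ K ^ 2
      let K' : Ideal R' := K.map (Ideal.Quotient.mk (K ^ 2))
      let q : Spec (CommRingCat.of R') ⟶ Spec (CommRingCat.of R) :=
        Spec.map (CommRingCat.ofHom (Ideal.Quotient.mk (K ^ 2)))
      let e := DoubleQuot.quotQuotEquivQuotOfLE hle
      have hK' : K' ^ 2 = ⊥ := by rw [← Ideal.map_pow, Ideal.map_quotient_self]
      have he : ∀ x, e (Ideal.Quotient.mk K' (Ideal.Quotient.mk (K ^ 2) x)) = Ideal.Quotient.mk K x :=
        fun x => DoubleQuot.quotQuotEquivQuotOfLE_quotQuotMk x hle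
      let toK : (Over.map q).obj (red K') ⟶ red K := Over.homMk (Spec.map (CommRingCat.ofHom e.symm.toRingHom)) (by
        show Spec.map _ ≫ Spec.map _ = Spec.map _ ≫ Spec.map _
        rw [← Spec.map_comp, ← Spec.map_comp, ← CommRingCat.ofHom_comp, ← CommRingCat.ofHom_comp]
        congr 2)
      let fromK : red K ⟶ (Over.map q).obj (red K') := Over.homMk (Spec.map (CommRingCat.ofHom e.toRingHom)) (by
        show Spec.map _ ≫ Spec.map _ ≫ Spec.map _ = Spec.map _
        rw [← Spec.map_comp, ← Spec.map_comp, ← CommRingCat.ofHom_comp, ← CommRingCat.ofHom_comp]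
        congr 2)
      obtain ⟨g', hg', hgv'⟩ := exists_conj_sq hK' (locDiag_bc' q hH) ((Over.pullback q).map u)
        ((Over.pullback q).map v) fun X p h => (theta_bijective q).injective (by
          rw [theta_comp_map, theta_comp_map]
          exact h0 _ ((Over.map q).map p ≫ toK) _)
      let oneIso : red (K ^ 2) ⟶ (Over.map q).obj (𝟙_ (Over (Spec (CommRingCat.of R')))) :=
        Over.homMk (𝟙 _) (by show 𝟙 _ ≫ 𝟙 _ ≫ q = q; simp)
      obtain ⟨g'', hg''⟩ := exists_point_lift (J := K ^ 2) ⟨n, by rw [← pow_mul]; exact pow_eq_zero_of_le (by omega) hK⟩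
        hG (oneIso ≫ theta q g')
      have hone : ∀ {Y : Over (Spec (CommRingCat.of R'))}, theta q (1 : Y ⟶ Red.bc q G) = 1 := fun {Y} => by
        have := theta_mul q (1 : Y ⟶ Red.bc q G) 1
        rw [_root_.one_mul] at this
        exact mul_eq_left.mp this.symm
      have hg1 : toUnit (red K) ≫ g'' = 1 := by
        let r : red K ⟶ red (K ^ 2) := Over.homMk (Spec.map (CommRingCat.ofHom (Ideal.Quotient.factor hle))) (by
          show Spec.map _ ≫ Spec.map _ = Spec.map _
          rw [← Spec.map_comp, ← CommRingCat.ofHom_comp, Ideal.Quotient.factor_comp_mk])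
        have hr : r ≫ oneIso = fromK ≫ (Over.map q).map (toUnit (red K')) := by
          refine Over.OverMorphism.ext ?_
          show Spec.map _ ≫ 𝟙 _ = Spec.map _ ≫ Spec.map (CommRingCat.ofHom (Ideal.Quotient.mk K'))
          rw [Category.comp_id, ← Spec.map_comp, ← CommRingCat.ofHom_comp]
          congr 2
          refine Ideal.Quotient.ringHom_ext (RingHom.ext fun x => ?_)
          exact (he x).symm
        rw [← comp_toUnit_assoc r, hg'', ← Category.assoc, hr, Category.assoc, ← theta_comp, hg', hone,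
          MonObj.comp_one]
      let u'' : H ⟶ G := (toUnit H ≫ g'') * u * (toUnit H ≫ g'')⁻¹
      have hu'' : ∀ (X : Over (Spec (CommRingCat.of R))) (h : X ⟶ H),
          h ≫ u'' = (toUnit X ≫ g'') * (h ≫ u) * (toUnit X ≫ g'')⁻¹ := fun X h => by
        simp only [u'', MonObj.comp_mul, GrpObj.comp_inv, comp_toUnit_assoc]
      haveI : IsMonHom u'' := by
        refine { one_hom := ?_, mul_hom := ?_ }
        · rw [hu'', IsMonHom.one_hom u, show η[G] = (1 : 𝟙_ _ ⟶ G) from by
            rw [Hom.one_def, toUnit_unique (toUnit (𝟙_ (Over (Spec (CommRingCat.of R))))) (𝟙 _), Category.id_comp],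
            _root_.mul_one, mul_inv_cancel]
        · rw [hu'', show μ[H] = fst H H * snd H H by rw [Hom.mul_def, lift_fst_snd, Category.id_comp],
            MonObj.mul_comp, show (u'' ⊗ₘ u'') ≫ μ[G] = (fst H H ≫ u'') * (snd H H ≫ u'') by
              simp [Hom.mul_def], hu'', hu'']
          group
      obtain ⟨h₁, hh₁, hh₁v⟩ := ih ((n + 1) / 2) (by omega) (K ^ 2)
        (by rw [← pow_mul]; exact pow_eq_zero_of_le (by omega) hK) hH hG u'' v fun X p h => by
          let Y : Over (Spec (CommRingCat.of R')) := Over.mk p.left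
          let e1 : (Over.map q).obj Y ⟶ X := Over.homMk (𝟙 _) (by
            have := Over.w p
            simpa [Y] using this.symm)
          let e2 : X ⟶ (Over.map q).obj Y := Over.homMk (𝟙 _) (by
            have := Over.w p
            simpa [Y] using this)
          have h12 : e2 ≫ e1 = 𝟙 _ := Over.OverMorphism.ext (Category.id_comp _)
          have hp : e1 ≫ p ≫ oneIso = (Over.map q).map (toUnit Y) := Over.OverMorphism.ext (by
            show 𝟙 _ ≫ p.left ≫ 𝟙 _ = p.left
            simp)
          have := congrArg (theta q) (hgv' Y (thetaInv q (e1 ≫ h)))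
          rw [theta_conj, theta_comp_map, theta_comp_map, theta_comp, theta_thetaInv, ← hp] at this
          have := congrArg (fun m => e2 ≫ m) this
          simp only [MonObj.comp_mul, GrpObj.comp_inv, Category.assoc, reassoc_of% h12] at this
          rw [hu'', this, ← comp_toUnit_assoc p g'', hg'']
      refine ⟨h₁ * g'', ?_, fun X h => ?_⟩
      · rw [MonObj.comp_mul, hg1, _root_.mul_one]
        let r : red K ⟶ red (K ^ 2) := Over.homMk (Spec.map (CommRingCat.ofHom (Ideal.Quotient.factor hle))) (by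
          show Spec.map _ ≫ Spec.map _ = Spec.map _
          rw [← Spec.map_comp, ← CommRingCat.ofHom_comp, Ideal.Quotient.factor_comp_mk])
        rw [← comp_toUnit_assoc r, hh₁, MonObj.comp_one]
      · rw [hh₁v, hu'', MonObj.comp_mul]
        group

end Groth.Agent.MultTransp18
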