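import Groth.Agent.MultTransp18.InfConjScheme
import Groth.Agent.MultTransp18.CentrNorm

/-!
# Almost homomorphisms from groups of multiplicative type can be corrected

For a square zero ideal and an arbitrary group, a map which is multiplicative on points over the reduction is
congruent to a homomorphism: the correction is the push forward of the defect along the invariant mean.
-/

universe u

open CategoryTheory CategoryTheory.Limits MonoidalCategory CartesianMonoidalCategory MonObj AlgebraicGeometry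
open TensorProduct
open Groth.Agent.GrpSchLib.AffineHopf

set_option backward.isDefEq.respectTransparency false
set_option linter.style.haveILetI false
set_option synthInstance.maxHeartbeats 400000
set_option maxHeartbeats 1000000

namespace Groth.Agent.MultTransp18

variable {R : Type u} [CommRing R]

/-- Points over the reduction factor through the reduction. -/
theorem exists_factor_red {A : Type u} [CommRing A] [Algebra R A] (J : Ideal R)
    {X : Over (Spec (CommRingCat.of R))} (p : X ⟶ red J) (h : X ⟶ sp R A) :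
    ∃ h' : X ⟶ sp R (Ared J A), h' ≫ spMap (redHom J A) = h := by
  let φ : CommRingCat.of A ⟶ Γ(X.left, ⊤) := (Scheme.ΓSpecIso _).inv ≫ h.left.appTop
  have hφ : X.left.toSpecΓ ≫ Spec.map φ = h.left := by
    simp only [φ, Spec.map_comp, ← Scheme.toSpecΓ_naturality_assoc]
    show h.left ≫ (Spec (CommRingCat.of A)).toSpecΓ ≫ _ = h.left
    rw [toSpecΓ_SpecMap_ΓSpecIso_inv]
    exact Category.comp_id _
  have hk : ∀ a ∈ J.map (algebraMap R A), φ.hom a = 0 := by
    suffices J.map (algebraMap R A) ≤ RingHom.ker φ.hom from fun a ha => this ha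
    refine Ideal.map_le_iff_le_comap.mpr fun r hr => ?_
    show φ.hom (algebraMap R A r) = 0
    have e1 : CommRingCat.ofHom (algebraMap R A) ≫ φ = CommRingCat.ofHom (Ideal.Quotient.mk J) ≫
        (Scheme.ΓSpecIso _).inv ≫ p.left.appTop := by
      simp only [φ, ← Category.assoc, Scheme.ΓSpecIso_inv_naturality]
      simp only [Category.assoc, ← Scheme.Hom.comp_appTop]
      congr 2
      exact (Over.w h).trans (Over.w p).symm
    have e2 := RingHom.congr_fun (congrArg CommRingCat.Hom.hom e1) r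
    simp only [CommRingCat.hom_comp, CommRingCat.hom_ofHom, RingHom.comp_apply,
      Ideal.Quotient.eq_zero_iff_mem.mpr hr, map_zero] at e2
    exact e2
  let φ' : CommRingCat.of (Ared J A) ⟶ Γ(X.left, ⊤) := CommRingCat.ofHom (Ideal.Quotient.lift _ φ.hom hk)
  have e3 : (X.left.toSpecΓ ≫ Spec.map φ') ≫ Spec.map (CommRingCat.ofHom (redHom J A).toRingHom) = h.left := by
    rw [Category.assoc, ← Spec.map_comp, ← hφ]
    rfl
  refine ⟨Over.homMk (X.left.toSpecΓ ≫ Spec.map φ') ?_, Over.OverMorphism.ext e3⟩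
  rw [← Over.w h, ← e3]
  show _ ≫ Spec.map _ = _ ≫ Spec.map _
  simp only [Category.assoc, ← Spec.map_comp, ← CommRingCat.ofHom_comp]
  rfl

/-- Two points make a point of the tensor product. -/
theorem exists_pair_point {A : Type u} [CommRing A] [Algebra R A] {X : Over (Spec (CommRingCat.of R))}
    (a b : X ⟶ sp R A) : ∃ h : X ⟶ sp R (A ⊗[R] A),
      h ≫ spMap (Algebra.TensorProduct.includeLeft : A →ₐ[R] A ⊗[R] A) = a ∧
      h ≫ spMap (Algebra.TensorProduct.includeRight : A →ₐ[R] A ⊗[R] A) = b := by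
  let l := pullback.lift (f := Spec.map (CommRingCat.ofHom (algebraMap R A)))
    (g := Spec.map (CommRingCat.ofHom (algebraMap R A))) a.left b.left ((Over.w a).trans (Over.w b).symm) ≫
      (pullbackSpecIso R A A).hom
  have h1 : l ≫ Spec.map (CommRingCat.ofHom Algebra.TensorProduct.includeLeftRingHom) = a.left := by
    rw [Category.assoc, pullbackSpecIso_hom_fst, pullback.lift_fst]
  have h2 : l ≫ Spec.map (CommRingCat.ofHom
      (Algebra.TensorProduct.includeRight : A →ₐ[R] A ⊗[R] A).toRingHom) = b.left := by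
    rw [Category.assoc]
    erw [pullbackSpecIso_hom_snd]
    exact pullback.lift_snd _ _ _
  refine ⟨Over.homMk l ?_, Over.OverMorphism.ext h1, Over.OverMorphism.ext h2⟩
  rw [← Over.w a, ← h1]
  show l ≫ Spec.map _ = (l ≫ Spec.map _) ≫ Spec.map _
  refine Eq.trans ?_ (Category.assoc _ _ _).symm
  rw [← Spec.map_comp, ← CommRingCat.ofHom_comp]
  rfl

variable {J : Ideal R} {G : Over (Spec (CommRingCat.of R))} [GrpObj G]

/-- Push forwards commute with maps of pairs of algebras. -/
theorem IsPush.mapPair {A₀ B A₀' B' : Type u} [CommRing A₀] [Algebra R A₀] [CommRing B] [Algebra R B] [CommRing A₀']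
    [Algebra R A₀'] [CommRing B'] [Algebra R B'] {hJ : J ^ 2 = ⊥} {j : A₀ →ₐ[R] B} {l : B →ₗ[R] A₀}
    {hl : ∀ x y, l (x * j y) = l x * y} {hl1 : l 1 = 1} {j' : A₀' →ₐ[R] B'} {l' : B' →ₗ[R] A₀'}
    {hl' : ∀ x y, l' (x * j' y) = l' x * y} {hl1' : l' 1 = 1} (f : B →ₐ[R] B') (g : A₀ →ₐ[R] A₀')
    (hfj : ∀ y, f (j y) = j' (g y)) (hlf : ∀ z, l' (f z) = g (l z)) {x : sp R B ⟶ G} {w y : sp R A₀ ⟶ G}
    (h : IsPush hJ j l hl hl1 x w y) :
    IsPush hJ j' l' hl' hl1' (spMap f ≫ x) (spMap g ≫ w) (spMap g ≫ y) := by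
  obtain ⟨q, q1, q2, q3⟩ := h
  let s : Pairs J j →ₐ[R] Pairs J j' := pairsLift (f.comp (pB J j)) (g.comp (pA J j)) fun z => by
    have h1 : pB J j z - j (pA J j z) ∈ (J • ⊤ : Submodule R B) := by
      rw [Ideal.smul_top_eq_map]; exact pairs_sub_mem z
    have h2 := MultTypeLib.map_smul_top f.toLinearMap h1
    rw [Ideal.smul_top_eq_map] at h2
    simpa [map_sub, hfj] using h2
  refine ⟨spMap s ≫ q, ?_, ?_, ?_⟩
  all_goals rw [← Category.assoc, spMap_comp]
  · rw [show (pB J j').comp s = f.comp (pB J j) from rfl, ← spMap_comp, Category.assoc, q1]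
  · rw [show (pA J j').comp s = g.comp (pA J j) from rfl, ← spMap_comp, Category.assoc, q2]
  · rw [show (hat hJ l' hl' hl1').comp s = g.comp (hat hJ l hl hl1) from AlgHom.ext fun z => hlf _,
      ← spMap_comp, Category.assoc, q3]

theorem spMap_co {A : Type u} [CommRing A] [HopfAlgebra R A] : spMap (Bialgebra.comulAlgHom R A) =
    spMap (Algebra.TensorProduct.includeLeft : A →ₐ[R] A ⊗[R] A) *
      spMap (Algebra.TensorProduct.includeRight : A →ₐ[R] A ⊗[R] A) := by
  rw [spMap_mul]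
  congr 1
  refine AlgHom.ext fun a => ?_
  rw [AlgHom.convMul_apply]
  show Coalgebra.comul (R := R) a = _
  generalize Coalgebra.comul (R := R) a = z
  induction z using TensorProduct.induction_on with
  | zero => simp
  | add p q hp hq => simp only [map_add]; exact congrArg₂ (· + ·) hp hq
  | tmul p q => simp

set_option maxHeartbeats 2000000 in
/-- An almost homomorphism is congruent to a homomorphism. -/
theorem exists_hom_sq_hopf {A : Type u} [CommRing A] [HopfAlgebra R A] (hA : SGA3b.IsMultType R A) (hJ : J ^ 2 = ⊥)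
    (x : sp R A ⟶ G)
    (hx : spMap (redHom J (A ⊗[R] A)) ≫ ((spMap (Algebra.TensorProduct.includeLeft : A →ₐ[R] A ⊗[R] A) ≫ x) *
      (spMap (Algebra.TensorProduct.includeRight : A →ₐ[R] A ⊗[R] A) ≫ x) *
      (spMap (Bialgebra.comulAlgHom R A) ≫ x)⁻¹) = 1) :
    ∃ x' : sp R A ⟶ G, IsMonHom x' ∧ spMap (redHom J A) ≫ x' = spMap (redHom J A) ≫ x := by
  obtain ⟨mu⟩ := MultTypeLib.exists_mean hA
  let iL : A →ₐ[R] A ⊗[R] A := Algebra.TensorProduct.includeLeft
  let iR : A →ₐ[R] A ⊗[R] A := Algebra.TensorProduct.includeRight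
  let co : A →ₐ[R] A ⊗[R] A := Bialgebra.comulAlgHom R A
  let d : sp R (A ⊗[R] A) ⟶ G := (spMap iL ≫ x) * (spMap iR ≫ x) * (spMap co ≫ x)⁻¹
  have hd : spMap (redHom J (A ⊗[R] A)) ≫ d = 1 := hx
  obtain ⟨q, q1, q2⟩ := exists_pairs_hom (j := iL) d (1 : sp R A ⟶ G) (by
    rw [hd, MonObj.comp_one, MonObj.comp_one])
  let c : sp R A ⟶ G := spMap (hat hJ mu.L mu.L_mul mu.L_one) ≫ q
  have hc : IsPush hJ iL mu.L mu.L_mul mu.L_one d 1 c := ⟨q, q1, q2, rfl⟩
  have hc1 : spMap (redHom J A) ≫ c = 1 := by rw [hc.red_eq, MonObj.comp_one]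
  -- the third variable
  let jB : A ⊗[R] A →ₐ[R] (A ⊗[R] A) ⊗[R] A := Algebra.TensorProduct.includeLeft
  let jl : A →ₐ[R] (A ⊗[R] A) ⊗[R] A := Algebra.TensorProduct.includeRight
  let LB : (A ⊗[R] A) ⊗[R] A →ₗ[R] A ⊗[R] A :=
    (TensorProduct.rid R (A ⊗[R] A)).toLinearMap ∘ₗ LinearMap.lTensor (A ⊗[R] A) mu.μ
  have hLB : ∀ b a, LB (b ⊗ₜ a) = mu.μ a • b := fun b a => by simp [LB]
  have hLB1 : LB 1 = 1 := by
    rw [Algebra.TensorProduct.one_def, hLB, mu.map_one', one_smul, Algebra.TensorProduct.one_def]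
  have hLBm : ∀ z y, LB (z * jB y) = LB z * y := fun z y => by
    induction z using TensorProduct.induction_on with
    | zero => simp
    | add p r hp hr => simp only [add_mul, map_add, hp, hr]
    | tmul p r => simp [jB, hLB, smul_mul_assoc]
  have hLBj : ∀ y, LB (jB y) = y := fun y => by rw [← _root_.one_mul (jB y), hLBm, hLB1, _root_.one_mul]
  let f2 : A ⊗[R] A →ₐ[R] (A ⊗[R] A) ⊗[R] A := Algebra.TensorProduct.map co (AlgHom.id R A)
  let f3 : A ⊗[R] A →ₐ[R] (A ⊗[R] A) ⊗[R] A := Algebra.TensorProduct.map iR (AlgHom.id R A)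
  let f4 : A ⊗[R] A →ₐ[R] (A ⊗[R] A) ⊗[R] A := Algebra.TensorProduct.lift (jB.comp iL) (f3.comp co)
    fun _ _ => Commute.all _ _
  have f3L : ∀ z, LB (f3 z) = iR (mu.L z) := fun z => by
    induction z using TensorProduct.induction_on with
    | zero => simp
    | add p r hp hr => simp only [map_add, hp, hr]
    | tmul p r =>
      rw [MultTypeLib.Mean.L_tmul, map_smul, Algebra.TensorProduct.map_tmul, AlgHom.id_apply, hLB]
  have f2L : ∀ z, LB (f2 z) = co (mu.L z) := fun z => by
    induction z using TensorProduct.induction_on with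
    | zero => simp
    | add p r hp hr => simp only [map_add, hp, hr]
    | tmul p r =>
      rw [MultTypeLib.Mean.L_tmul, map_smul, Algebra.TensorProduct.map_tmul, AlgHom.id_apply, hLB]
  have f4L : ∀ z, LB (f4 z) = iL (mu.L z) := fun z => by
    induction z using TensorProduct.induction_on with
    | zero => simp
    | add p r hp hr => simp only [map_add, hp, hr]
    | tmul p r =>
      rw [MultTypeLib.Mean.L_tmul, map_smul, Algebra.TensorProduct.lift_tmul]
      show LB (jB (iL p) * f3 (co r)) = _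
      rw [mul_comm, hLBm, f3L, show mu.L (co r) = mu.μ r • (1 : A) from mu.inv r, map_smul, map_one,
        smul_mul_assoc, _root_.one_mul]
  have e2 : IsPush hJ jB LB hLBm hLB1 (spMap f2 ≫ d) 1 (spMap co ≫ c) := by
    have := hc.mapPair (j' := jB) (l' := LB) (hl' := hLBm) (hl1' := hLB1) f2 co (fun y => by simp [f2, jB, iL]) f2L
    rwa [MonObj.comp_one] at this
  have e3 : IsPush hJ jB LB hLBm hLB1 (spMap f3 ≫ d) 1 (spMap iR ≫ c) := by
    have := hc.mapPair (j' := jB) (l' := LB) (hl' := hLBm) (hl1' := hLB1) f3 iR (fun y => by simp [f3, jB, iL]) f3L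
    rwa [MonObj.comp_one] at this
  have e4 : IsPush hJ jB LB hLBm hLB1 (spMap f4 ≫ d) 1 (spMap iL ≫ c) := by
    have := hc.mapPair (j' := jB) (l' := LB) (hl' := hLBm) (hl1' := hLB1) f4 iL (fun y => by simp [f4, iL]) f4L
    rwa [MonObj.comp_one] at this
  have ed : IsPush hJ jB LB hLBm hLB1 (spMap jB ≫ d) 1 d := by
    have a1 := isPush_self (hJ := hJ) (j := jB) (hl := hLBm) (hl1 := hLB1) d
    have a2 := isPush_one_left (hJ := hJ) (j := jB) (hl := hLBm) (hl1 := hLB1) hLBj hd
    simpa using a1.mul a2.inv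
  have ex := isPush_self (hJ := hJ) (j := jB) (hl := hLBm) (hl1 := hLB1) (spMap iL ≫ x)
  let P : sp R ((A ⊗[R] A) ⊗[R] A) ⟶ sp R A := spMap (jB.comp iL)
  let Q : sp R ((A ⊗[R] A) ⊗[R] A) ⟶ sp R A := spMap (jB.comp iR)
  let S : sp R ((A ⊗[R] A) ⊗[R] A) ⟶ sp R A := spMap jl
  have hco : spMap co = spMap iL * spMap iR := spMap_co
  have key : ∀ f : A ⊗[R] A →ₐ[R] (A ⊗[R] A) ⊗[R] A, spMap f ≫ d =
      (spMap (f.comp iL) ≫ x) * (spMap (f.comp iR) ≫ x) * ((spMap (f.comp iL) * spMap (f.comp iR)) ≫ x)⁻¹ := by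
    intro f
    simp only [d, MonObj.comp_mul, GrpObj.comp_inv, ← Category.assoc, spMap_comp]
    rw [← spMap_comp f co, hco, MonObj.comp_mul, spMap_comp, spMap_comp]
  have k2 : spMap (f2.comp iL) = P * Q := by
    rw [show f2.comp iL = jB.comp co from AlgHom.ext fun y => by simp [f2, jB, iL], ← spMap_comp, hco,
      MonObj.comp_mul, spMap_comp, spMap_comp]
  have k2' : spMap (f2.comp iR) = S := by
    rw [show f2.comp iR = jl from AlgHom.ext fun y => by simp [f2, jl, iR, co, Algebra.TensorProduct.one_def]]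
  have k3 : spMap (f3.comp iL) = Q := by
    rw [show f3.comp iL = jB.comp iR from AlgHom.ext fun y => by simp [f3, jB, iR, iL]]
  have k3' : spMap (f3.comp iR) = S := by
    rw [show f3.comp iR = jl from AlgHom.ext fun y => by simp [f3, jl, iR, Algebra.TensorProduct.one_def]]
  have k4 : spMap (f4.comp iL) = P := by
    rw [show f4.comp iL = jB.comp iL from AlgHom.ext fun y => by simp [f4, iL]]
  have k4' : spMap (f4.comp iR) = Q * S := by
    rw [show f4.comp iR = f3.comp co from AlgHom.ext fun y => by simp [f4, iR], ← spMap_comp, hco,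
      MonObj.comp_mul, spMap_comp, spMap_comp, k3, k3']
  have E : (spMap jB ≫ d) * (spMap f2 ≫ d) = (spMap jB ≫ spMap iL ≫ x) * (spMap f3 ≫ d) *
      (spMap jB ≫ spMap iL ≫ x)⁻¹ * (spMap f4 ≫ d) := by
    rw [key jB, key f2, key f3, key f4, k2, k2', k3, k3', k4, k4', ← Category.assoc, spMap_comp, mul_assoc P Q S]
    simp only [P, Q, S]
    group
  have L1 := ed.mul e2
  rw [E, _root_.one_mul] at L1
  have L2 := ((ex.mul e3).mul ex.inv).mul e4
  rw [_root_.mul_one, _root_.mul_one, mul_inv_cancel] at L2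
  have main : d * (spMap co ≫ c) = (spMap iL ≫ x) * (spMap iR ≫ c) * (spMap iL ≫ x)⁻¹ * (spMap iL ≫ c) :=
    L1.eq L2
  refine ⟨c⁻¹ * x, isMonHom_of_map_mul _ fun T a b => ?_, by
    rw [MonObj.comp_mul, GrpObj.comp_inv, hc1, inv_one, _root_.one_mul]⟩
  obtain ⟨h, rfl, rfl⟩ := exists_pair_point a b
  rw [← MonObj.comp_mul, ← spMap_co, Category.assoc, Category.assoc, Category.assoc, ← MonObj.comp_mul]
  congr 1
  simp only [MonObj.comp_mul, GrpObj.comp_inv]
  show (spMap co ≫ c)⁻¹ * (spMap co ≫ x) = (spMap iL ≫ c)⁻¹ * (spMap iL ≫ x) * ((spMap iR ≫ c)⁻¹ * (spMap iR ≫ x))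
  rw [eq_inv_mul_of_mul_eq main]
  simp only [d]
  group

end Groth.Agent.MultTransp18
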