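import Groth.Agent.MultTransp18.InfHom
import Groth.Agent.MultTransp18.HomLift

/-!
# Lifting homomorphisms from groups of multiplicative type along nilpotent ideals
-/

universe u

open CategoryTheory CategoryTheory.Limits MonoidalCategory CartesianMonoidalCategory MonObj AlgebraicGeometry
open TensorProduct
open Groth.Agent.GrpSchLib.AffineHopf Groth.Agent.DSPtsLib

set_option backward.isDefEq.respectTransparency false
set_option linter.style.haveILetI false
set_option synthInstance.maxHeartbeats 400000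
set_option maxHeartbeats 2000000

namespace Groth.Agent.MultTransp18

variable {R : Type u} [CommRing R]

/-- The map is multiplicative on points defined over the reduction. -/
def HomMod (J : Ideal R) {H G : Over (Spec (CommRingCat.of R))} [GrpObj H] [GrpObj G] (x : H ⟶ G) : Prop :=
  ∀ (X : Over (Spec (CommRingCat.of R))) (_ : X ⟶ red J) (a b : X ⟶ H), (a * b) ≫ x = (a ≫ x) * (b ≫ x)

/-- The structure map of the reduction of an algebra. -/
noncomputable def toRedAlg (J : Ideal R) (B : Type u) [CommRing B] [Algebra R B] : sp R (Ared J B) ⟶ red J :=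
  Over.homMk (Spec.map (CommRingCat.ofHom (Ideal.quotientMap (J.map (algebraMap R B)) (algebraMap R B)
    Ideal.le_comap_map))) (by
      show Spec.map _ ≫ Spec.map _ = Spec.map (CommRingCat.ofHom (algebraMap R (Ared J B)))
      rw [← Spec.map_comp, ← CommRingCat.ofHom_comp]
      rfl)

/-- An affine group with Hopf algebra of multiplicative type. -/
def MTHopf (H : Over (Spec (CommRingCat.of R))) [GrpObj H] : Prop :=
  ∃ (A : Type u) (_ : CommRing A) (_ : HopfAlgebra R A),
    SGA3b.IsMultType R A ∧ Nonempty (Grp.mk (sp R A) ≅ Grp.mk H)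

theorem mtHopf_of_locDiag {H : Over (Spec (CommRingCat.of R))} [GrpObj H] (hH : LocDiag H) : MTHopf H := by
  haveI : IsAffineHom H.hom := isAffineHom_of_locDiag hH
  haveI : IsAffine H.left := isAffine_of_isAffineHom H.hom
  obtain ⟨A, _, _, ⟨eH⟩⟩ := exists_hopf H
  exact ⟨A, inferInstance, inferInstance, isMultType_of_locDiag eH hH, ⟨eH⟩⟩

theorem MTHopf.isAffine {H : Over (Spec (CommRingCat.of R))} [GrpObj H] (hH : MTHopf H) : IsAffine H.left := by
  obtain ⟨A, _, _, -, ⟨e⟩⟩ := hH
  haveI : IsIso e.inv.hom.hom.left :=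
    ⟨e.hom.hom.hom.left, congrArg (fun h => h.hom.hom.left) e.inv_hom_id,
      congrArg (fun h => h.hom.hom.left) e.hom_inv_id⟩
  haveI : IsAffine (Grp.mk (sp R A)).X.left := inferInstanceAs (IsAffine (Spec (CommRingCat.of A)))
  exact IsAffine.of_isIso e.inv.hom.hom.left

theorem MTHopf.red {J : Ideal R} {H : Over (Spec (CommRingCat.of R))} [GrpObj H] (hH : MTHopf H) :
    MTHopf (Red.bc (qMap J) H) := by
  obtain ⟨A, _, _, hA, ⟨e⟩⟩ := hH
  obtain ⟨e1⟩ := nonempty_bc_sp (R := R) (R ⧸ J) A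
  obtain ⟨e2⟩ := GrpSchLib.MultTypeBC.bc_iso (qMap J) e
  exact ⟨(R ⧸ J) ⊗[R] A, inferInstance, inferInstance, MultTypeLib.isMultType_baseChange (R ⧸ J) hA,
    ⟨e1.symm ≪≫ e2⟩⟩

/-- Square zero ideals, arbitrary group. -/
theorem exists_hom_sq {J : Ideal R} (hJ : J ^ 2 = ⊥) {H G : Over (Spec (CommRingCat.of R))} [GrpObj H] [GrpObj G]
    (hH : MTHopf H) (x : H ⟶ G) (hx : HomMod J x) : ∃ x' : H ⟶ G, IsMonHom x' ∧ AgreeMod J x x' := by
  obtain ⟨A, _, _, hA, ⟨eH⟩⟩ := hH
  haveI : IsMonHom eH.hom.hom.hom := eH.hom.hom.isMonHom_hom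
  haveI : IsMonHom eH.inv.hom.hom := eH.inv.hom.isMonHom_hom
  have eH1 : eH.inv.hom.hom ≫ eH.hom.hom.hom = 𝟙 _ := congrArg (fun m => m.hom.hom) eH.inv_hom_id
  obtain ⟨y, hy, hy'⟩ := exists_hom_sq_hopf hA hJ (eH.hom.hom.hom ≫ x) (by
    have := hx _ (toRedAlg J (A ⊗[R] A))
      (spMap (redHom J _) ≫ spMap Algebra.TensorProduct.includeLeft ≫ eH.hom.hom.hom)
      (spMap (redHom J _) ≫ spMap Algebra.TensorProduct.includeRight ≫ eH.hom.hom.hom)
    rw [← MonObj.comp_mul, ← MonObj.mul_comp, ← spMap_co] at this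
    simp only [MonObj.comp_mul, GrpObj.comp_inv, Category.assoc] at this ⊢
    rw [← this, mul_inv_cancel])
  haveI := hy
  refine ⟨eH.inv.hom.hom ≫ y, inferInstance, fun X p h => ?_⟩
  obtain ⟨h', hh'⟩ := exists_factor_red J p (h ≫ eH.inv.hom.hom)
  have := congrArg (fun m => h' ≫ m) hy'
  simp only [reassoc_of% hh', reassoc_of% eH1] at this
  exact this.symm

set_option maxHeartbeats 1000000 in
/-- A map on the reduction of an affine scheme lifts to a smooth target. -/
theorem exists_map_lift {L : Ideal R} (hL : IsNilpotent L) {H G : Over (Spec (CommRingCat.of R))} [GrpObj H]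
    [IsAffine H.left] (hG : Smooth G.hom) (x3 : Red.bc (qMap L) H ⟶ Red.bc (qMap L) G) :
    ∃ x1 : H ⟶ G, ∀ (Y : Over (Spec (CommRingCat.of (R ⧸ L)))) (a : Y ⟶ Red.bc (qMap L) H),
      theta (qMap L) a ≫ x1 = theta (qMap L) (a ≫ x3) := by
  haveI : IsClosedImmersion (qMap L) := IsClosedImmersion.spec_of_surjective _ Ideal.Quotient.mk_surjective
  obtain ⟨A, _, _, ⟨eH⟩⟩ := exists_hopf H
  generalize hu : eH.hom.hom.hom = u
  generalize hv : eH.inv.hom.hom = v
  have eH1 : v ≫ u = 𝟙 _ := hu ▸ hv ▸ congrArg (fun m => m.hom.hom) eH.inv_hom_id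
  clear hu hv eH
  generalize hp : toRedAlg L A = pA0
  clear hp
  let Y₀ : Over (Spec (CommRingCat.of (R ⧸ L))) := Over.mk pA0.left
  let c1 : (Over.map (qMap L)).obj Y₀ ⟶ sp R (Ared L A) :=
    Over.homMk (𝟙 _) ((Category.id_comp _).trans (Over.w pA0).symm)
  let c2 : sp R (Ared L A) ⟶ (Over.map (qMap L)).obj Y₀ :=
    Over.homMk (𝟙 _) ((Category.id_comp _).trans (Over.w pA0))
  have c12 : c2 ≫ c1 = 𝟙 _ := Over.OverMorphism.ext (Category.id_comp _)
  obtain ⟨b₀, hb₀⟩ : ∃ b₀ : Y₀ ⟶ Red.bc (qMap L) H, theta (qMap L) b₀ = c1 ≫ spMap (redHom L A) ≫ u :=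
    ⟨thetaInv (qMap L) _, theta_thetaInv _ _⟩
  obtain ⟨a0, ha0⟩ : ∃ a0 : sp R (Ared L A) ⟶ G, a0 = c2 ≫ theta (qMap L) (b₀ ≫ x3) := ⟨_, rfl⟩
  obtain ⟨n, hn⟩ := hL
  obtain ⟨l, hl, hl'⟩ := exists_lift_nil G.hom ((S1488.result G.hom).mp hG).2 n A
    (L.map (algebraMap R A)) (by rw [← Ideal.map_pow, hn, Ideal.zero_eq_bot, Ideal.map_bot])
    a0.left (sp R A).hom
    (by
      rw [Over.w a0]
      exact Over.w (spMap (redHom L A)))
  obtain ⟨lm, hlm⟩ : ∃ lm : sp R A ⟶ G, spMap (redHom L A) ≫ lm = a0 :=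
    ⟨Over.homMk l hl', Over.OverMorphism.ext hl⟩
  refine ⟨v ≫ lm, fun Y a => ?_⟩
  let p : (Over.map (qMap L)).obj Y ⟶ red L := Over.homMk Y.hom rfl
  obtain ⟨h', hh'⟩ := exists_factor_red L p (theta (qMap L) a ≫ v)
  have hw : h'.left ≫ pA0.left = Y.hom := (cancel_mono (qMap L)).mp (by
    rw [Category.assoc, show pA0.left ≫ qMap L = _ from Over.w pA0]
    exact Over.w h')
  let m : Y ⟶ Y₀ := Over.homMk h'.left hw
  have hm : h' ≫ c2 = (Over.map (qMap L)).map m := by
    refine Over.OverMorphism.ext ?_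
    rw [Over.comp_left, Over.map_map_left]
    simp only [c2, m, Over.homMk_left, Category.comp_id]
  have hb : m ≫ b₀ = a := (theta_bijective (qMap L)).injective (by
    rw [theta_comp, hb₀, ← hm, Category.assoc, reassoc_of% c12, reassoc_of% hh', eH1, Category.comp_id])
  rw [show theta (qMap L) (a ≫ x3) = h' ≫ a0 by
      rw [ha0, ← reassoc_of% hb, theta_comp, ← hm, Category.assoc], ← hlm, reassoc_of% hh']

/-- Nilpotent ideals, smooth group. -/
theorem exists_hom_nil (n : ℕ) :
    ∀ (K : Ideal R), K ^ n = ⊥ → ∀ {H G : Over (Spec (CommRingCat.of R))} [GrpObj H] [GrpObj G],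
      MTHopf H → Smooth G.hom → ∀ (x : H ⟶ G), HomMod K x →
      ∃ x' : H ⟶ G, IsMonHom x' ∧ AgreeMod K x x' := by
  induction n using Nat.strong_induction_on with
  | _ n ih =>
    intro K hK H G _ _ hH hG x hx
    by_cases hn : n ≤ 2
    · exact exists_hom_sq (pow_eq_zero_of_le hn hK) hH x hx
    · have hle : K ^ 2 ≤ K := Ideal.pow_le_self two_ne_zero
      let R' : Type u := R ⧸ K ^ 2
      let K' : Ideal R' := K.map (Ideal.Quotient.mk (K ^ 2))
      let q : Spec (CommRingCat.of R') ⟶ Spec (CommRingCat.of R) :=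
        Spec.map (CommRingCat.ofHom (Ideal.Quotient.mk (K ^ 2)))
      haveI : IsClosedImmersion q := IsClosedImmersion.spec_of_surjective _ Ideal.Quotient.mk_surjective
      let e := DoubleQuot.quotQuotEquivQuotOfLE hle
      have hK' : K' ^ 2 = ⊥ := by rw [← Ideal.map_pow, Ideal.map_quotient_self]
      let toK : (Over.map q).obj (red K') ⟶ red K := Over.homMk (Spec.map (CommRingCat.ofHom e.symm.toRingHom)) (by
        show Spec.map _ ≫ Spec.map _ = Spec.map _ ≫ Spec.map _
        rw [← Spec.map_comp, ← Spec.map_comp, ← CommRingCat.ofHom_comp, ← CommRingCat.ofHom_comp]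
        congr 2)
      let fromK : red K ⟶ (Over.map q).obj (red K') := Over.homMk (Spec.map (CommRingCat.ofHom e.toRingHom)) (by
        show Spec.map _ ≫ Spec.map _ ≫ Spec.map _ = Spec.map _
        rw [← Spec.map_comp, ← Spec.map_comp, ← CommRingCat.ofHom_comp, ← CommRingCat.ofHom_comp]
        congr 2)
      let r : red K ⟶ red (K ^ 2) := Over.homMk (Spec.map (CommRingCat.ofHom (Ideal.Quotient.factor hle))) (by
        show Spec.map _ ≫ Spec.map _ = Spec.map _
        rw [← Spec.map_comp, ← CommRingCat.ofHom_comp, Ideal.Quotient.factor_comp_mk])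
      obtain ⟨x3, hx3, hx3'⟩ := exists_hom_sq hK' (hH.red (J := K ^ 2)) ((Over.pullback q).map x) fun X p a b =>
        (theta_bijective q).injective (by
          rw [theta_mul, theta_comp_map, theta_comp_map, theta_comp_map, theta_mul]
          exact hx _ ((Over.map q).map p ≫ toK) _ _)
      haveI := hx3
      haveI : IsAffine H.left := hH.isAffine
      obtain ⟨x1, hC0⟩ := exists_map_lift (L := K ^ 2)
        ⟨n, by rw [← pow_mul]; exact pow_eq_zero_of_le (by omega) hK⟩ hG x3
      have hC : ∀ (Y : Over (Spec (CommRingCat.of R'))) (a : Y ⟶ Red.bc q H),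
          theta q a ≫ x1 = theta q (a ≫ x3) := hC0
      obtain ⟨x', hx', hx''⟩ := ih ((n + 1) / 2) (by omega) (K ^ 2)
        (by rw [← pow_mul]; exact pow_eq_zero_of_le (by omega) hK) hH hG x1 fun X p a b => by
          let Y : Over (Spec (CommRingCat.of R')) := Over.mk p.left
          let e1 : (Over.map q).obj Y ⟶ X := Over.homMk (𝟙 _) ((Category.id_comp _).trans (Over.w p).symm)
          let e2 : X ⟶ (Over.map q).obj Y := Over.homMk (𝟙 _) ((Category.id_comp _).trans (Over.w p))
          have h12 : e2 ≫ e1 = 𝟙 _ := Over.OverMorphism.ext (Category.id_comp _)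
          have key := congrArg (fun m => e2 ≫ theta q m)
            (MonObj.mul_comp (thetaInv q (e1 ≫ a)) (thetaInv q (e1 ≫ b)) x3)
          simp only [theta_mul, ← hC, theta_thetaInv, MonObj.comp_mul, ← Category.assoc, h12,
            Category.id_comp] at key
          exact key
      refine ⟨x', hx', fun X p h => ?_⟩
      rw [← hx'' X (p ≫ r) h]
      let Y : Over (Spec (CommRingCat.of R')) := Over.mk (p ≫ r).left
      let e1 : (Over.map q).obj Y ⟶ X := Over.homMk (𝟙 _) ((Category.id_comp _).trans (Over.w (p ≫ r)).symm)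
      let e2 : X ⟶ (Over.map q).obj Y := Over.homMk (𝟙 _) ((Category.id_comp _).trans (Over.w (p ≫ r)))
      have h12 : e2 ≫ e1 = 𝟙 _ := Over.OverMorphism.ext (Category.id_comp _)
      let p' : Y ⟶ red K' := Over.homMk (p.left ≫ fromK.left) ((cancel_mono q).mp (by
        rw [Category.assoc, Category.assoc]
        exact (congrArg (fun m => p.left ≫ m) (Over.w fromK)).trans
          ((Over.w p).trans (Over.w (p ≫ r)).symm)))
      have key := congrArg (fun m => e2 ≫ theta q m) (hx3' Y p' (thetaInv q (e1 ≫ h)))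
      simp only [theta_comp_map, ← hC, theta_thetaInv, Category.assoc, reassoc_of% h12] at key
      exact key

end Groth.Agent.MultTransp18
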