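import Groth.Agent.MultTransp18.InfConjScheme
import Groth.Agent.MultTransp18.HomLift

/-!
# Lifting conjugations along nilpotent ideals: homomorphisms and subgroups
-/

universe u

open CategoryTheory CategoryTheory.Limits MonoidalCategory CartesianMonoidalCategory MonObj AlgebraicGeometry
open Groth.Agent.GrpSchLib.AffineHopf

set_option backward.isDefEq.respectTransparency false
set_option linter.style.haveILetI false
set_option synthInstance.maxHeartbeats 400000
set_option maxHeartbeats 1000000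

namespace Groth.Agent.MultTransp18

variable {R : Type u} [CommRing R]

/-- The conjugate of a map by a section. -/
noncomputable def conjMap {S : Scheme.{u}} {H G : Over S} [GrpObj G] (g : 𝟙_ (Over S) ⟶ G) (u : H ⟶ G) : H ⟶ G :=
  (toUnit H ≫ g) * u * (toUnit H ≫ g)⁻¹

theorem comp_conjMap {S : Scheme.{u}} {H G : Over S} [GrpObj G] (g : 𝟙_ (Over S) ⟶ G) (u : H ⟶ G) {X : Over S}
    (h : X ⟶ H) : h ≫ conjMap g u = (toUnit X ≫ g) * (h ≫ u) * (toUnit X ≫ g)⁻¹ := by
  simp only [conjMap, MonObj.comp_mul, GrpObj.comp_inv, comp_toUnit_assoc]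

theorem isMonHom_conjMap {S : Scheme.{u}} {H G : Over S} [GrpObj H] [GrpObj G] (g : 𝟙_ (Over S) ⟶ G) (u : H ⟶ G)
    [IsMonHom u] : IsMonHom (conjMap g u) := by
  refine { one_hom := ?_, mul_hom := ?_ }
  · rw [comp_conjMap, IsMonHom.one_hom u, show η[G] = (1 : 𝟙_ _ ⟶ G) from by
      rw [Hom.one_def, toUnit_unique (toUnit (𝟙_ (Over S))) (𝟙 _), Category.id_comp], _root_.mul_one, mul_inv_cancel]
  · rw [comp_conjMap, show μ[H] = fst H H * snd H H by rw [Hom.mul_def, lift_fst_snd, Category.id_comp],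
      MonObj.mul_comp, show (conjMap g u ⊗ₘ conjMap g u) ≫ μ[G] =
        (fst H H ≫ conjMap g u) * (snd H H ≫ conjMap g u) by simp [Hom.mul_def], comp_conjMap, comp_conjMap]
    group

theorem mono_conjMap {S : Scheme.{u}} {H G : Over S} [GrpObj G] (g : 𝟙_ (Over S) ⟶ G) (u : H ⟶ G) [Mono u] :
    Mono (conjMap g u) :=
  ⟨fun a b h => by
    rw [comp_conjMap, comp_conjMap] at h
    exact (cancel_mono u).mp (mul_left_cancel (mul_right_cancel h))⟩

/-- Conjugating points lift along nilpotent ideals: smooth group. -/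
theorem exists_conj_lift_nil {J : Ideal R} (hJ : IsNilpotent J) {H G : Over (Spec (CommRingCat.of R))} [GrpObj H]
    [GrpObj G] (hH : LocDiag H) (hG : Smooth G.hom) (u v : H ⟶ G) [IsMonHom u] [IsMonHom v] (g₀ : red J ⟶ G)
    (h0 : ∀ (X : Over (Spec (CommRingCat.of R))) (p : X ⟶ red J) (h : X ⟶ H),
      h ≫ v = (p ≫ g₀) * (h ≫ u) * (p ≫ g₀)⁻¹) :
    ∃ g : 𝟙_ (Over (Spec (CommRingCat.of R))) ⟶ G, toUnit (red J) ≫ g = g₀ ∧
      ∀ (X : Over (Spec (CommRingCat.of R))) (h : X ⟶ H),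
        h ≫ v = (toUnit X ≫ g) * (h ≫ u) * (toUnit X ≫ g)⁻¹ := by
  obtain ⟨g₁, hg₁⟩ := exists_point_lift hJ hG g₀
  haveI := isMonHom_conjMap g₁ u
  obtain ⟨n, hn⟩ := hJ
  obtain ⟨g, hg, hgv⟩ := exists_conj_nil n J hn hH hG (conjMap g₁ u) v fun X p h => by
    rw [comp_conjMap, h0 X p h, ← comp_toUnit_assoc p g₁, hg₁]
  refine ⟨g * g₁, by rw [MonObj.comp_mul, hg, hg₁, _root_.one_mul], fun X h => ?_⟩
  rw [hgv, comp_conjMap, MonObj.comp_mul]
  group

open DSPtsLib in
/-- Homomorphisms of groups of multiplicative type agreeing on the reduction are equal. -/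
theorem hom_ext_nil {J : Ideal R} (hJ : IsNilpotent J) {H H' : Over (Spec (CommRingCat.of R))} [GrpObj H]
    [GrpObj H'] (hH : LocDiag H) (hH' : LocDiag H') (a b : H ⟶ H') [IsMonHom a] [IsMonHom b]
    (h : (Over.pullback (qMap J)).map a = (Over.pullback (qMap J)).map b) : a = b := by
  haveI : IsAffineHom H.hom := isAffineHom_of_locDiag hH
  haveI : IsAffineHom H'.hom := isAffineHom_of_locDiag hH'
  haveI : IsAffine H.left := isAffine_of_isAffineHom H.hom
  haveI : IsAffine H'.left := isAffine_of_isAffineHom H'.hom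
  obtain ⟨A, _, _, ⟨eH⟩⟩ := exists_hopf H
  obtain ⟨A', _, _, ⟨eH'⟩⟩ := exists_hopf H'
  haveI : IsMonHom eH.hom.hom.hom := eH.hom.hom.isMonHom_hom
  haveI : IsMonHom eH'.inv.hom.hom := eH'.inv.hom.isMonHom_hom
  obtain ⟨α, hα⟩ := exists_bialgHom (eH.hom.hom.hom ≫ a ≫ eH'.inv.hom.hom)
  obtain ⟨β', hβ'⟩ := exists_bialgHom (eH.hom.hom.hom ≫ b ≫ eH'.inv.hom.hom)
  have hagree : AgreeMod J a b := fun X p x => by
    let Y : Over (Spec (CommRingCat.of (R ⧸ J))) := Over.mk p.left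
    let e1 : (Over.map (qMap J)).obj Y ⟶ X := Over.homMk (𝟙 _) ((Category.id_comp _).trans (Over.w p).symm)
    let e2 : X ⟶ (Over.map (qMap J)).obj Y := Over.homMk (𝟙 _) ((Category.id_comp _).trans (Over.w p))
    have h12 : e2 ≫ e1 = 𝟙 _ := Over.OverMorphism.ext (Category.id_comp _)
    have := congrArg (fun m => e2 ≫ theta (qMap J) (thetaInv (qMap J) (e1 ≫ x) ≫ m)) h
    simp only [theta_comp_map, theta_thetaInv, Category.assoc, reassoc_of% h12] at this
    exact this
  have hq := hagree _ (toRed J) (spMap (redHom J A) ≫ eH.hom.hom.hom)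
  have hq' : spMap (redHom J A) ≫ spMap (α : A' →ₐ[R] A) = spMap (redHom J A) ≫ spMap (β' : A' →ₐ[R] A) := by
    rw [← hα, ← hβ']
    simp only [← Category.assoc] at hq ⊢
    rw [hq]
  rw [spMap_comp, spMap_comp] at hq'
  have heq : α = β' := MultTypeLib.bialgHom_ext_nil hJ (isMultType_of_locDiag eH' hH') (isMultType_of_locDiag eH hH)
    α β' fun c => by
      rw [Ideal.smul_top_eq_map]
      exact Ideal.Quotient.eq.mp (DFunLike.congr_fun (spMap_injective hq') c)
  subst heq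
  have := congrArg (fun m => eH.inv.hom.hom ≫ m ≫ eH'.hom.hom.hom) (hα.trans hβ'.symm)
  have b1 : eH.inv.hom.hom ≫ eH.hom.hom.hom = 𝟙 _ := congrArg (fun m => m.hom.hom) eH.inv_hom_id
  have b2 : eH'.inv.hom.hom ≫ eH'.hom.hom.hom = 𝟙 _ := congrArg (fun m => m.hom.hom) eH'.inv_hom_id
  simpa only [Category.assoc, reassoc_of% b1, b2, Category.comp_id] using this

open DSPtsLib in
/-- Subgroups of multiplicative type with the same reduction: the isomorphism lifts. -/
theorem exists_iso_lift {J : Ideal R} (hJ : IsNilpotent J) {H H' G : Over (Spec (CommRingCat.of R))} [GrpObj H]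
    [GrpObj H'] [GrpObj G] (hH : LocDiag H) (hH' : LocDiag H') (i : H ⟶ G) [IsMonHom i] [Mono i] (i' : H' ⟶ G)
    [IsMonHom i'] [Mono i'] (ψ₀ : Red.bc (qMap J) H ≅ Red.bc (qMap J) H')
    (hψ₀ : ψ₀.hom ≫ (Over.pullback (qMap J)).map i' = (Over.pullback (qMap J)).map i) :
    ∃ ψ : H ≅ H', IsMonHom ψ.hom ∧ AgreeMod J i (ψ.hom ≫ i') := by
  have hψ₀' : ψ₀.inv ≫ (Over.pullback (qMap J)).map i = (Over.pullback (qMap J)).map i' := by
    rw [← hψ₀, Iso.inv_hom_id_assoc]
  haveI : Mono ((Over.pullback (qMap J)).map i) := inferInstance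
  haveI : Mono ((Over.pullback (qMap J)).map i') := inferInstance
  haveI : IsMonHom ψ₀.hom := isMonHom_of_comp _ ((Over.pullback (qMap J)).map i') (hψ₀ ▸ inferInstance)
  haveI : IsMonHom ψ₀.inv := isMonHom_of_comp _ ((Over.pullback (qMap J)).map i) (hψ₀' ▸ inferInstance)
  obtain ⟨ψ, hψm, hψ⟩ := exists_hom_lift hJ H H' hH hH' ψ₀.hom
  obtain ⟨ψ', hψ'm, hψ'⟩ := exists_hom_lift hJ H' H hH' hH ψ₀.inv
  haveI := hψm
  haveI := hψ'm
  refine ⟨⟨ψ, ψ', hom_ext_nil hJ hH hH _ _ ?_, hom_ext_nil hJ hH' hH' _ _ ?_⟩, hψm, fun X p x => ?_⟩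
  · rw [Functor.map_comp, hψ, hψ', Iso.hom_inv_id, CategoryTheory.Functor.map_id]
  · rw [Functor.map_comp, hψ, hψ', Iso.inv_hom_id, CategoryTheory.Functor.map_id]
  · let Y : Over (Spec (CommRingCat.of (R ⧸ J))) := Over.mk p.left
    let e1 : (Over.map (qMap J)).obj Y ⟶ X := Over.homMk (𝟙 _) ((Category.id_comp _).trans (Over.w p).symm)
    let e2 : X ⟶ (Over.map (qMap J)).obj Y := Over.homMk (𝟙 _) ((Category.id_comp _).trans (Over.w p))
    have h12 : e2 ≫ e1 = 𝟙 _ := Over.OverMorphism.ext (Category.id_comp _)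
    have := congrArg (fun m => e2 ≫ theta (qMap J) (thetaInv (qMap J) (e1 ≫ x) ≫ m)) hψ₀
    rw [← hψ, ← Functor.map_comp] at this
    simp only [theta_comp_map, theta_thetaInv, Category.assoc, reassoc_of% h12] at this
    exact this.symm
where
  /-- A map whose composite with a monomorphic homomorphism is a homomorphism is one. -/
  isMonHom_of_comp {S : Scheme.{u}} {A B C : Over S} [GrpObj A] [GrpObj B] [GrpObj C] (a : A ⟶ B) (b : B ⟶ C)
      [IsMonHom b] [Mono b] (hab : IsMonHom (a ≫ b)) : IsMonHom a := by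
    refine { one_hom := ?_, mul_hom := ?_ }
    · rw [← cancel_mono b, Category.assoc, IsMonHom.one_hom (a ≫ b), IsMonHom.one_hom b]
    · rw [← cancel_mono b, Category.assoc, IsMonHom.mul_hom (a ≫ b), Category.assoc, IsMonHom.mul_hom b,
        ← Category.assoc, tensorHom_comp_tensorHom]

end Groth.Agent.MultTransp18
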