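import Groth.Agent.MultTransp18.Bridge
import Groth.Agent.MultTransp18.Conj
import Groth.Agent.MultTypeLib.SmoothLift
import Groth.Agent.MultTypeLib.MultNil

/-!
# Conjugating points lift along nilpotent ideals (smooth affine target)
-/

universe u

open CategoryTheory CategoryTheory.Limits MonoidalCategory CartesianMonoidalCategory MonObj AlgebraicGeometry
open TensorProduct WithConv
open Groth.Agent.GrpSchLib.AffineHopf

set_option backward.isDefEq.respectTransparency false
set_option linter.style.haveILetI false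

namespace Groth.Agent.MultTransp18

attribute [local instance 2000] MultTypeLib.algConvGroup

variable {R : Type u} [CommRing R]

/-- The reduction of the base modulo an ideal, as an object over the base. -/
noncomputable abbrev red (J : Ideal R) : Over (Spec (CommRingCat.of R)) :=
  Over.mk (Spec.map (CommRingCat.ofHom (Ideal.Quotient.mk J)))

/-- A section of an affine scheme given by an algebra map. -/
noncomputable def secOf {C : Type u} [CommRing C] [Algebra R C] (g : C →ₐ[R] R) :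
    𝟙_ (Over (Spec (CommRingCat.of R))) ⟶ sp R C :=
  Over.homMk (Spec.map (CommRingCat.ofHom g.toRingHom)) (by
    show Spec.map _ ≫ Spec.map (CommRingCat.ofHom (algebraMap R C)) = 𝟙 _
    rw [← Spec.map_comp, ← CommRingCat.ofHom_comp, show g.toRingHom.comp (algebraMap R C) = RingHom.id R from
      RingHom.ext g.commutes]
    exact Spec.map_id _)

theorem toUnit_secOf {B C : Type u} [CommRing B] [Algebra R B] [CommRing C] [Algebra R C] (g : C →ₐ[R] R) :
    toUnit (sp R B) ≫ secOf g = spMap ((Algebra.ofId R B).comp g) := by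
  refine Over.OverMorphism.ext ?_
  show (sp R B).hom ≫ Spec.map _ = Spec.map _
  show Spec.map (CommRingCat.ofHom (algebraMap R B)) ≫ Spec.map _ = Spec.map _
  rw [← Spec.map_comp]
  rfl

variable {C : Type u} [CommRing C] [HopfAlgebra R C]

/-- Points of an affine group with values in affine schemes form the convolution group. -/
noncomputable def ptHom (B : Type u) [CommRing B] [Algebra R B] :
    WithConv (C →ₐ[R] B) →* (sp R B ⟶ sp R C) :=
  (Spec.mapMulEquiv (R := R) (S := C) (T := B)).toMonoidHom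

theorem ptHom_apply {B : Type u} [CommRing B] [Algebra R B] (f : WithConv (C →ₐ[R] B)) :
    ptHom B f = spMap f.ofConv := rfl

theorem comp_ptHom {B B' : Type u} [CommRing B] [Algebra R B] [CommRing B'] [Algebra R B'] (h : B →ₐ[R] B')
    (f : WithConv (C →ₐ[R] B)) : spMap h ≫ ptHom B f = ptHom B' (MultTypeLib.convMap h f) :=
  spMap_comp _ _

theorem ptHom_injective (B : Type u) [CommRing B] [Algebra R B] : Function.Injective (ptHom (R := R) (C := C) B) :=
  (Spec.mapMulEquiv (R := R) (S := C) (T := B)).injective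

theorem toUnit_secOf' {B : Type u} [CommRing B] [Algebra R B] (g : WithConv (C →ₐ[R] R)) :
    toUnit (sp R B) ≫ secOf g.ofConv = ptHom B (basePt g) := toUnit_secOf _

variable {A : Type u} [CommRing A] [HopfAlgebra R A]

/-- The reduction of the group modulo the ideal. -/
abbrev Ared (J : Ideal R) (A : Type u) [CommRing A] [Algebra R A] : Type u := A ⧸ J.map (algebraMap R A)

noncomputable def toRed (J : Ideal R) : sp R (Ared J A) ⟶ red J :=
  Over.homMk (Spec.map (CommRingCat.ofHom (Ideal.quotientMap (J.map (algebraMap R A)) (algebraMap R A)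
    Ideal.le_comap_map))) (by
      show Spec.map _ ≫ Spec.map _ = Spec.map (CommRingCat.ofHom (algebraMap R (Ared J A)))
      rw [← Spec.map_comp, ← CommRingCat.ofHom_comp]
      rfl)

theorem toRed_toUnit_secOf (J : Ideal R) (g₁ : WithConv (C →ₐ[R] R)) :
    toRed (A := A) J ≫ toUnit (red J) ≫ secOf g₁.ofConv = ptHom (Ared J A) (basePt g₁) := by
  rw [comp_toUnit_assoc, toUnit_secOf']

theorem exists_lift_point [Algebra.Smooth R C] {J : Ideal R} (hJ : IsNilpotent J) (g₀ : red J ⟶ sp R C) :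
    ∃ g₁ : WithConv (C →ₐ[R] R), toUnit (red J) ≫ secOf g₁.ofConv = g₀ := by
  obtain ⟨φ, hφ⟩ : ∃ φ : C →ₐ[R] R ⧸ J, (spMap φ : sp R (R ⧸ J) ⟶ sp R C).left = g₀.left := by
    obtain ⟨φ, hφ⟩ := exists_eq_spMap (A := R ⧸ J) (B := C) (Over.homMk g₀.left (Over.w g₀))
    exact ⟨φ, (congrArg CommaMorphism.left hφ).symm⟩
  let g₁ : C →ₐ[R] R := Algebra.FormallySmooth.lift J hJ φ
  have hg₁ : (Ideal.Quotient.mkₐ R J).comp g₁ = φ := Algebra.FormallySmooth.comp_lift J hJ φ
  refine ⟨toConv g₁, Over.OverMorphism.ext ?_⟩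
  rw [← hφ, ← hg₁]
  show Spec.map (CommRingCat.ofHom (Ideal.Quotient.mk J)) ≫ Spec.map _ = Spec.map _
  rw [← Spec.map_comp]
  rfl

theorem cong_unit_toUnit_secOf {J : Ideal R} {g : WithConv (C →ₐ[R] R)} (g₁ : WithConv (C →ₐ[R] R))
    (hg : MultTypeLib.Cong J (MultTypeLib.lin g) 1) :
    toUnit (red J) ≫ secOf (g * g₁).ofConv = toUnit (red J) ≫ secOf g₁.ofConv := by
  have h : MultTypeLib.Cong J (MultTypeLib.lin (g * g₁)) (MultTypeLib.lin g₁) := by
    have := hg.mul_right (S := MultTypeLib.lin g₁)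
    rwa [_root_.one_mul, ← map_mul] at this
  refine Over.OverMorphism.ext ?_
  show Spec.map (CommRingCat.ofHom (Ideal.Quotient.mk J)) ≫ Spec.map _ =
    Spec.map (CommRingCat.ofHom (Ideal.Quotient.mk J)) ≫ Spec.map _
  rw [← Spec.map_comp, ← Spec.map_comp]
  congr 1
  refine CommRingCat.hom_ext (RingHom.ext fun c => Ideal.Quotient.eq.mpr ?_)
  have := h c
  rwa [show (J • ⊤ : Submodule R R) = J from by
    rw [Ideal.smul_top_eq_map, Algebra.algebraMap_self, Ideal.map_id]; rfl] at this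

set_option maxHeartbeats 1000000 in
/-- Conjugating points lift, in coordinates. -/
theorem exists_conj_lift_hopf [Algebra.Smooth R C] (hA : SGA3b.IsMultType R A) {J : Ideal R} (hJ : IsNilpotent J)
    (bet gam : C →ₐc[R] A) (g₀ : red J ⟶ sp R C)
    (h0 : spMap (Ideal.Quotient.mkₐ R (J.map (algebraMap R A))) ≫ spMap (bet : C →ₐ[R] A) =
      (toRed J ≫ g₀) * (spMap (Ideal.Quotient.mkₐ R (J.map (algebraMap R A))) ≫ spMap (gam : C →ₐ[R] A)) *
        (toRed J ≫ g₀)⁻¹) :
    ∃ g : 𝟙_ (Over (Spec (CommRingCat.of R))) ⟶ sp R C, toUnit (red J) ≫ g = g₀ ∧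
      spMap (bet : C →ₐ[R] A) = (toUnit _ ≫ g) * spMap (gam : C →ₐ[R] A) * (toUnit _ ≫ g)⁻¹ := by
  obtain ⟨mu⟩ := MultTypeLib.exists_mean hA
  obtain ⟨g₁, rfl⟩ := exists_lift_point hJ g₀
  obtain ⟨gam₁, hgam₁⟩ := exists_conj_hom gam g₁
  let q : A →ₐ[R] Ared J A := Ideal.Quotient.mkₐ R (J.map (algebraMap R A))
  have hq : MultTypeLib.convMap q (homPt gam₁) = MultTypeLib.convMap q (homPt bet) := by
    apply ptHom_injective
    rw [hgam₁]
    simp only [map_mul, map_inv, convMap_basePt]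
    rw [← comp_ptHom q (homPt gam), ← comp_ptHom q (homPt bet), ← toRed_toUnit_secOf]
    exact h0.symm
  have hcong : ∀ c, gam₁ c - bet c ∈ (J • ⊤ : Submodule R A) := fun c => by
    rw [Ideal.smul_top_eq_map]
    exact Ideal.Quotient.eq.mp (DFunLike.congr_fun (congrArg WithConv.ofConv hq) c)
  obtain ⟨g, hg, hgb⟩ := exists_conj_pt mu hJ bet gam₁ hcong
  refine ⟨secOf (g * g₁).ofConv, cong_unit_toUnit_secOf g₁ hg, ?_⟩
  rw [toUnit_secOf']
  show ptHom A (homPt bet) = _ * ptHom A (homPt gam) * _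
  rw [← map_inv, ← map_mul, ← map_mul, hgb, hgam₁,
    show basePt (T := A) (g * g₁) = basePt g * basePt g₁ from map_mul _ _ _]
  group

section Transport

variable {R : Type u} [CommRing R]

/-- An isomorphism of groups as a multiplicative map on points. -/
theorem map_conj {S : Scheme.{u}} {G G' : Over S} [GrpObj G] [GrpObj G'] (φ : G ⟶ G') [IsMonHom φ] {X : Over S}
    (a b : X ⟶ G) : (a * b * a⁻¹) ≫ φ = (a ≫ φ) * (b ≫ φ) * (a ≫ φ)⁻¹ := by
  rw [MonObj.mul_comp, MonObj.mul_comp, GrpObj.inv_comp]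

set_option maxHeartbeats 1000000 in
/-- Conjugating points lift along nilpotent ideals, for a smooth affine target over an affine base. -/
theorem exists_conj_lift {J : Ideal R} (hJ : IsNilpotent J) (H G : Over (Spec (CommRingCat.of R))) [GrpObj H]
    [GrpObj G] [IsAffine H.left] [IsAffine G.left] (hH : LocDiag H) (hG : Smooth G.hom) (u v : H ⟶ G) [IsMonHom u]
    [IsMonHom v] (g₀ : red J ⟶ G)
    (h0 : ∀ (X : Over (Spec (CommRingCat.of R))) (p : X ⟶ red J) (h : X ⟶ H),
      h ≫ v = (p ≫ g₀) * (h ≫ u) * (p ≫ g₀)⁻¹) :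
    ∃ g : 𝟙_ (Over (Spec (CommRingCat.of R))) ⟶ G, toUnit (red J) ≫ g = g₀ ∧
      ∀ (X : Over (Spec (CommRingCat.of R))) (h : X ⟶ H),
        h ≫ v = (toUnit X ≫ g) * (h ≫ u) * (toUnit X ≫ g)⁻¹ := by
  obtain ⟨A, _, _, ⟨eH⟩⟩ := exists_hopf H
  obtain ⟨C, _, _, ⟨eG⟩⟩ := exists_hopf G
  haveI : IsMonHom eH.hom.hom.hom := eH.hom.hom.isMonHom_hom
  haveI : IsMonHom eG.inv.hom.hom := eG.inv.hom.isMonHom_hom
  haveI : IsMonHom eG.hom.hom.hom := eG.hom.hom.isMonHom_hom
  have hA : SGA3b.IsMultType R A := isMultType_of_locDiag eH hH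
  have eH1 : eH.inv.hom.hom ≫ eH.hom.hom.hom = 𝟙 _ := congrArg (fun m => m.hom.hom) eH.inv_hom_id
  have eG1 : eG.inv.hom.hom ≫ eG.hom.hom.hom = 𝟙 _ := congrArg (fun m => m.hom.hom) eG.inv_hom_id
  have eG2 : eG.hom.hom.hom ≫ eG.inv.hom.hom = 𝟙 _ := congrArg (fun m => m.hom.hom) eG.hom_inv_id
  haveI : Algebra.Smooth R C := by
    haveI : IsIso eG.hom.hom.hom.left :=
      ⟨eG.inv.hom.hom.left, congrArg CommaMorphism.left eG2, congrArg CommaMorphism.left eG1⟩
    haveI := hG
    have : Smooth (sp R C).hom := by rw [← Over.w eG.hom.hom.hom]; infer_instance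
    exact RingHom.smooth_algebraMap.mp
      ((HasRingHomProperty.Spec_iff (P := @Smooth) (φ := CommRingCat.ofHom (algebraMap R C))).mp this)
  obtain ⟨gam, hgam⟩ := exists_bialgHom (eH.hom.hom.hom ≫ u ≫ eG.inv.hom.hom)
  obtain ⟨bet, hbet⟩ := exists_bialgHom (eH.hom.hom.hom ≫ v ≫ eG.inv.hom.hom)
  let q := spMap (Ideal.Quotient.mkₐ R (J.map (algebraMap R A)))
  have h0' := congrArg (fun m => m ≫ eG.inv.hom.hom) (h0 _ (toRed J) (q ≫ eH.hom.hom.hom))
  simp only [map_conj, Category.assoc] at h0'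
  rw [hgam, hbet] at h0'
  obtain ⟨g, hg0, hg⟩ := exists_conj_lift_hopf hA hJ bet gam (g₀ ≫ eG.inv.hom.hom) h0'
  refine ⟨g ≫ eG.hom.hom.hom, by rw [← Category.assoc, hg0, Category.assoc, eG1, Category.comp_id], fun X h => ?_⟩
  have h2 := congrArg (fun m => h ≫ eH.inv.hom.hom ≫ m ≫ eG.hom.hom.hom) hg
  simp only [← hgam, ← hbet, map_conj, MonObj.comp_mul, GrpObj.comp_inv, Category.assoc, eG1, Category.comp_id,
    comp_toUnit_assoc] at h2
  simpa only [reassoc_of% eH1] using h2

end Transport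

end Groth.Agent.MultTransp18
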