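import Groth.Agent.MultTransp18.HomLift
import Groth.Agent.FComplLib.Thicken

/-!
# Immersions are detected modulo nilpotent ideals
-/

universe u

open CategoryTheory CategoryTheory.Limits AlgebraicGeometry

set_option backward.isDefEq.respectTransparency false
set_option linter.style.haveILetI false

namespace Groth.Agent.MultTransp18

variable {R : Type u} [CommRing R]

theorem surjective_qMap {J : Ideal R} (hJ : IsNilpotent J) : Surjective (qMap J) := by
  obtain ⟨n, hn⟩ := hJ
  refine ⟨fun p => ?_⟩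
  have h : J ≤ p.asIdeal := fun x hx => by
    refine p.2.mem_of_pow_mem n ?_
    have h0 := Ideal.pow_mem_pow hx n
    rw [hn] at h0
    rw [show x ^ n = 0 from h0]
    exact p.asIdeal.zero_mem
  have hp : Ideal.comap (Ideal.Quotient.mk J) (p.asIdeal.map (Ideal.Quotient.mk J)) = p.asIdeal := by
    rw [Ideal.comap_map_of_surjective _ Ideal.Quotient.mk_surjective, ← RingHom.ker_eq_comap_bot, Ideal.mk_ker,
      sup_eq_left.mpr h]
  exact ⟨⟨p.asIdeal.map (Ideal.Quotient.mk J), Ideal.map_isPrime_of_surjective Ideal.Quotient.mk_surjective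
    (by rw [Ideal.mk_ker]; exact h)⟩, PrimeSpectrum.ext hp⟩

/-- The kernel of the base change of a nilpotent reduction is nilpotent. -/
theorem ker_pow_eq_bot {J : Ideal R} {m : ℕ} (hm : J ^ m = ⊥) {V V₀ : Scheme.{u}} (iV : V₀ ⟶ V)
    (s : V₀ ⟶ Spec (CommRingCat.of (R ⧸ J))) (g : V ⟶ Spec (CommRingCat.of R))
    (sq : IsPullback iV s g (qMap J)) : iV.ker ^ m = ⊥ := by
  haveI : IsClosedImmersion (qMap J) := IsClosedImmersion.spec_of_surjective _ Ideal.Quotient.mk_surjective
  have h0 : (qMap J).ker.ideal ⟨⊤, isAffineOpen_top _⟩ ^ m = ⊥ := by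
    have e : (qMap J).ker.ideal ⟨⊤, isAffineOpen_top _⟩ = J.map (Scheme.ΓSpecIso (CommRingCat.of R)).inv.hom := by
      rw [Scheme.Hom.ker_apply]
      show RingHom.ker (qMap J).appTop.hom = _
      ext r
      obtain ⟨r, rfl⟩ : ∃ r', (Scheme.ΓSpecIso (CommRingCat.of R)).inv.hom r' = r :=
        (ConcreteCategory.bijective_of_isIso (Scheme.ΓSpecIso (CommRingCat.of R)).inv).2 r
      have hn := RingHom.congr_fun (congrArg CommRingCat.Hom.hom
        (Scheme.ΓSpecIso_inv_naturality (CommRingCat.ofHom (Ideal.Quotient.mk J)))) r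
      simp only [CommRingCat.hom_comp, RingHom.comp_apply, CommRingCat.hom_ofHom] at hn
      rw [RingHom.mem_ker, ← hn]
      rw [map_eq_zero_iff _ (ConcreteCategory.bijective_of_isIso
        (Scheme.ΓSpecIso (CommRingCat.of (R ⧸ J))).inv).1, Ideal.Quotient.eq_zero_iff_mem]
      constructor
      · exact Ideal.mem_map_of_mem _
      · intro h
        obtain ⟨x, hx, hxr⟩ := (Ideal.mem_map_iff_of_surjective _ (ConcreteCategory.bijective_of_isIso
          (Scheme.ΓSpecIso (CommRingCat.of R)).inv).2).mp h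
        exact (ConcreteCategory.bijective_of_isIso (Scheme.ΓSpecIso (CommRingCat.of R)).inv).1 hxr ▸ hx
    rw [e, ← Ideal.map_pow, hm, Ideal.map_bot]
  ext W : 2
  show iV.ker.ideal W ^ m = ⊥
  rw [FComplLib.ker_of_isPullback sq, ModPairLib.ideal_comap _ g ⟨⊤, isAffineOpen_top _⟩ W (fun _ _ => trivial),
    ← Ideal.map_pow, h0, Ideal.map_bot]

/-- A map which is an immersion modulo a nilpotent ideal is an immersion. -/
theorem isImmersion_of_mod_nil {J : Ideal R} (hJ : IsNilpotent J) {H G : Over (Spec (CommRingCat.of R))} (f : H ⟶ G)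
    [IsImmersion ((Over.pullback (qMap J)).map f).left] : IsImmersion f.left := by
  obtain ⟨m, hm⟩ := hJ
  haveI := surjective_qMap ⟨m, hm⟩
  haveI : IsClosedImmersion (qMap J) := IsClosedImmersion.spec_of_surjective _ Ideal.Quotient.mk_surjective
  let iX : pullback H.hom (qMap J) ⟶ H.left := pullback.fst _ _
  let iY : pullback G.hom (qMap J) ⟶ G.left := pullback.fst _ _
  let f₀ : pullback H.hom (qMap J) ⟶ pullback G.hom (qMap J) := ((Over.pullback (qMap J)).map f).left
  haveI : IsImmersion f₀ := ‹IsImmersion ((Over.pullback (qMap J)).map f).left›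
  have w : f₀ ≫ iY = iX ≫ f.left := pullback.lift_fst _ _ _
  have w2 : f₀ ≫ pullback.snd _ _ = pullback.snd H.hom (qMap J) := pullback.lift_snd _ _ _
  have sq : IsPullback iX f₀ f.left iY := by
    refine (IsPullback.of_right (h₁₁ := f₀) (h₁₂ := pullback.snd G.hom (qMap J)) (v₁₁ := iX) (v₁₂ := iY)
      (v₁₃ := qMap J) (h₂₁ := f.left) (h₂₂ := G.hom) ?_ w (IsPullback.of_hasPullback G.hom (qMap J)).flip).flip
    rw [w2, Over.w f]
    exact (IsPullback.of_hasPullback H.hom (qMap J)).flip
  haveI : IsClosedImmersion iY := MorphismProperty.pullback_fst (P := @IsClosedImmersion) _ _ inferInstance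
  haveI : Surjective iY := MorphismProperty.pullback_fst (P := @Surjective) _ _ inferInstance
  haveI : Surjective iX := MorphismProperty.pullback_fst (P := @Surjective) _ _ inferInstance
  let U := f₀.coborderRange
  let V : G.left.Opens := ⟨(iY '' (U : Set _)ᶜ)ᶜ, (iY.isClosedEmbedding.isClosedMap _ U.2.isClosed_compl).isOpen_compl⟩
  have hV : iY ⁻¹ᵁ V = U := by
    ext x
    show iY x ∈ (iY '' (U : Set _)ᶜ)ᶜ ↔ x ∈ U
    rw [Set.mem_compl_iff, iY.isClosedEmbedding.injective.mem_set_image, Set.mem_compl_iff, not_not, SetLike.mem_coe]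
  have hr : Set.range f.left ⊆ (V : Set G.left) := by
    rintro _ ⟨x, rfl⟩
    obtain ⟨x, rfl⟩ := iX.surjective x
    rw [← Scheme.Hom.comp_apply, ← w, Scheme.Hom.comp_apply]
    show f₀ x ∈ iY ⁻¹ᵁ V
    rw [hV]
    exact subset_coborder ⟨x, rfl⟩
  let f' : H.left ⟶ (V : Scheme.{u}) := IsOpenImmersion.lift V.ι f.left (by simpa using hr)
  have hf' : f' ≫ V.ι = f.left := IsOpenImmersion.lift_fac _ _ _
  let U' : (pullback G.hom (qMap J)).Opens := iY ⁻¹ᵁ V
  let f₀' : pullback H.hom (qMap J) ⟶ (U' : Scheme.{u}) :=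
    IsOpenImmersion.lift U'.ι f₀ (by
      rw [Scheme.Opens.range_ι, show U' = U from hV]
      rintro _ ⟨x, rfl⟩
      exact subset_coborder ⟨x, rfl⟩)
  have hf₀' : f₀' ≫ U'.ι = f₀ := IsOpenImmersion.lift_fac _ _ _
  haveI : IsClosedImmersion f₀' := by
    have e : f₀' = f₀.liftCoborder ≫ (pullback G.hom (qMap J)).homOfLE (le_of_eq hV.symm) := by
      rw [← cancel_mono U'.ι, hf₀', Category.assoc, Scheme.homOfLE_ι, Scheme.Hom.liftCoborder_ι]
    haveI : IsIso ((pullback G.hom (qMap J)).homOfLE (le_of_eq hV.symm)) := by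
      rw [show (pullback G.hom (qMap J)).homOfLE (le_of_eq hV.symm) =
        ((pullback G.hom (qMap J)).isoOfEq hV.symm).hom from by
          rw [← cancel_mono U'.ι]; simp [U']]
      infer_instance
    rw [e]
    infer_instance
  have sqV := isPullback_morphismRestrict iY V
  have sq' : IsPullback iX f₀' f' (iY ∣_ V) := by
    refine IsPullback.of_bot (v₂₁ := U'.ι) (v₂₂ := V.ι) (h₃₁ := iY) ?_ ?_ sqV
    · rw [hf₀', hf']; exact sq
    · rw [← cancel_mono V.ι, Category.assoc, Category.assoc, hf', morphismRestrict_ι, ← Category.assoc, hf₀', w]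
  haveI : IsClosedImmersion (iY ∣_ V) := IsZariskiLocalAtTarget.restrict (P := @IsClosedImmersion) inferInstance V
  haveI : IsClosedImmersion f' := by
    refine FComplLib.isClosedImmersion_of_thickening sq' (m := m) (ker_pow_eq_bot hm _
      (U'.ι ≫ pullback.snd G.hom (qMap J)) (V.ι ≫ G.hom) ?_)
    exact sqV.paste_vert (IsPullback.of_hasPullback G.hom (qMap J))
  rw [← hf']
  infer_instance

end Groth.Agent.MultTransp18
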