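import Groth.Agent.MultTransp18.Lift
import Groth.Agent.QuillenLib.Pinch

/-!
# Pushing infinitesimal points forward along linear maps

`G` is an arbitrary group scheme over `Spec R` and `J` has square zero. For algebras `j : A₀ → B` and an
`A₀`-semilinear retraction `ℓ : B → A₀`, a `B`-point congruent modulo `J` to an `A₀`-point `w` gives an
`A₀`-point, through the fibre product of `B` and `A₀` over `B / J B`.
-/

universe u

open CategoryTheory CategoryTheory.Limits MonoidalCategory CartesianMonoidalCategory MonObj AlgebraicGeometry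
open Groth.Agent.GrpSchLib.AffineHopf

set_option backward.isDefEq.respectTransparency false
set_option linter.style.haveILetI false
set_option synthInstance.maxHeartbeats 400000
set_option maxHeartbeats 1000000

namespace Groth.Agent.MultTransp18

variable {R : Type u} [CommRing R]

section Pairs

variable {A₀ B : Type u} [CommRing A₀] [Algebra R A₀] [CommRing B] [Algebra R B]

/-- The reduction of `B`. -/
abbrev redHom (J : Ideal R) (B : Type u) [CommRing B] [Algebra R B] : B →ₐ[R] Ared J B :=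
  Ideal.Quotient.mkₐ R (J.map (algebraMap R B))

/-- Pairs congruent modulo `J`. -/
abbrev Pairs (J : Ideal R) (j : A₀ →ₐ[R] B) : Type u :=
  QuillenLib.Pinch (redHom J B).toRingHom ((redHom J B).comp j).toRingHom

noncomputable instance (J : Ideal R) (j : A₀ →ₐ[R] B) : Algebra R (Pairs J j) :=
  ((RingHom.prod (algebraMap R B) (algebraMap R A₀)).codRestrict _ (fun r => by
    show (redHom J B) (algebraMap R B r) = (redHom J B) (j (algebraMap R A₀ r))
    rw [j.commutes])).toAlgebra

/-- First projection. -/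
def pB (J : Ideal R) (j : A₀ →ₐ[R] B) : Pairs J j →ₐ[R] B :=
  { QuillenLib.toB (redHom J B).toRingHom ((redHom J B).comp j).toRingHom with commutes' := fun _ => rfl }

/-- Second projection. -/
def pA (J : Ideal R) (j : A₀ →ₐ[R] B) : Pairs J j →ₐ[R] A₀ :=
  { QuillenLib.toA (redHom J B).toRingHom ((redHom J B).comp j).toRingHom with commutes' := fun _ => rfl }

theorem pairs_sub_mem {J : Ideal R} {j : A₀ →ₐ[R] B} (z : Pairs J j) :
    pB J j z - j (pA J j z) ∈ J.map (algebraMap R B) :=
  Ideal.Quotient.eq.mp z.2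

theorem pairs_ext {J : Ideal R} {j : A₀ →ₐ[R] B} {z z' : Pairs J j} (h1 : pB J j z = pB J j z')
    (h2 : pA J j z = pA J j z') : z = z' :=
  QuillenLib.pinch_ext _ _ h1 h2

/-- A map into pairs. -/
def pairsLift {P : Type u} [CommRing P] [Algebra R P] {J : Ideal R} {j : A₀ →ₐ[R] B} (f : P →ₐ[R] B)
    (g : P →ₐ[R] A₀) (h : ∀ z, f z - j (g z) ∈ J.map (algebraMap R B)) : P →ₐ[R] Pairs J j :=
  { (RingHom.prod f.toRingHom g.toRingHom).codRestrict _ (fun z =>
      show (redHom J B) (f z) = (redHom J B) (j (g z)) from Ideal.Quotient.eq.mpr (h z)) with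
    commutes' := fun r => pairs_ext (f.commutes r) (g.commutes r) }

@[simp] theorem pB_pairsLift {P : Type u} [CommRing P] [Algebra R P] {J : Ideal R} {j : A₀ →ₐ[R] B} (f : P →ₐ[R] B)
    (g : P →ₐ[R] A₀) (h : ∀ z, f z - j (g z) ∈ J.map (algebraMap R B)) (z : P) :
    pB J j (pairsLift f g h z) = f z := rfl

@[simp] theorem pA_pairsLift {P : Type u} [CommRing P] [Algebra R P] {J : Ideal R} {j : A₀ →ₐ[R] B} (f : P →ₐ[R] B)
    (g : P →ₐ[R] A₀) (h : ∀ z, f z - j (g z) ∈ J.map (algebraMap R B)) (z : P) :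
    pA J j (pairsLift f g h z) = g z := rfl

/-- The composite of the first projection with a semilinear retraction is multiplicative. -/
noncomputable def hat {J : Ideal R} (hJ : J ^ 2 = ⊥) {j : A₀ →ₐ[R] B} (l : B →ₗ[R] A₀)
    (hl : ∀ x y, l (x * j y) = l x * y) (hl1 : l 1 = 1) : Pairs J j →ₐ[R] A₀ :=
  AlgHom.ofLinearMap (l ∘ₗ (pB J j).toLinearMap) (by
    show l (pB J j 1) = 1
    rw [map_one, hl1]) fun z z' => by
    show l (pB J j (z * z')) = l (pB J j z) * l (pB J j z')
    have hlj : ∀ y, l (j y) = y := fun y => by rw [← _root_.one_mul (j y), hl, hl1, _root_.one_mul]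
    have hmem : ∀ x : B, x ∈ J.map (algebraMap R B) → l x ∈ J.map (algebraMap R A₀) := fun x hx => by
      have h1 : x ∈ (J • ⊤ : Submodule R B) := by rw [Ideal.smul_top_eq_map]; exact hx
      have h2 := MultTypeLib.map_smul_top l h1
      rw [Ideal.smul_top_eq_map] at h2
      exact h2
    have hsq : ∀ (T : Type u) [CommRing T] [Algebra R T] (a b : T), a ∈ J.map (algebraMap R T) →
        b ∈ J.map (algebraMap R T) → a * b = 0 := fun T _ _ a b ha hb => by
      have := Ideal.mul_mem_mul ha hb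
      rw [← Ideal.map_mul, ← pow_two, hJ, Ideal.map_bot] at this
      exact this
    have d1 := pairs_sub_mem z
    have d2 := pairs_sub_mem z'
    have e : pB J j z * pB J j z' = pB J j z * j (pA J j z') + pB J j z' * j (pA J j z)
        - j (pA J j z) * j (pA J j z') + (pB J j z - j (pA J j z)) * (pB J j z' - j (pA J j z')) := by ring
    rw [map_mul, e, hsq B _ _ d1 d2, add_zero, map_sub, map_add, hl, hl, ← map_mul, hlj]
    have h0 := hsq A₀ _ _ (hmem _ d1) (hmem _ d2)
    rw [map_sub, map_sub, hlj, hlj] at h0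
    linear_combination -h0

theorem hat_apply {J : Ideal R} (hJ : J ^ 2 = ⊥) {j : A₀ →ₐ[R] B} (l : B →ₗ[R] A₀)
    (hl : ∀ x y, l (x * j y) = l x * y) (hl1 : l 1 = 1) (z : Pairs J j) : hat hJ l hl hl1 z = l (pB J j z) := rfl

variable {G : Over (Spec (CommRingCat.of R))}

/-- Points on pairs are determined by their two components. -/
theorem pairs_hom_ext {J : Ideal R} {j : A₀ →ₐ[R] B} (h h' : sp R (Pairs J j) ⟶ G)
    (h1 : spMap (pB J j) ≫ h = spMap (pB J j) ≫ h') (h2 : spMap (pA J j) ≫ h = spMap (pA J j) ≫ h') : h = h' := by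
  refine Over.OverMorphism.ext (QuillenLib.hom_ext_pair (pB J j).toRingHom (pA J j).toRingHom
    (fun z a b => pairs_ext (by rw [map_zero]; exact a) (by rw [map_zero]; exact b))
    (QuillenLib.pinch_surjective _ _ Ideal.Quotient.mk_surjective) _ _ ?_ ?_)
  · exact congrArg CommaMorphism.left h1
  · exact congrArg CommaMorphism.left h2

/-- Congruent points give a point on pairs. -/
theorem exists_pairs_hom {J : Ideal R} {j : A₀ →ₐ[R] B} (x : sp R B ⟶ G) (w : sp R A₀ ⟶ G)
    (hxw : spMap (redHom J B) ≫ x = spMap (redHom J B) ≫ spMap j ≫ w) :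
    ∃ h : sp R (Pairs J j) ⟶ G, spMap (pB J j) ≫ h = x ∧ spMap (pA J j) ≫ h = w := by
  obtain ⟨h, hB, hA⟩ := QuillenLib.exists_hom_pinch (redHom J B).toRingHom ((redHom J B).comp j).toRingHom G.left
    Ideal.Quotient.mk_surjective x.left w.left (by
      have := congrArg CommaMorphism.left hxw
      rw [← Category.assoc, spMap_comp] at this
      exact this)
  have hw : h ≫ G.hom = (sp R (Pairs J j)).hom := by
    refine QuillenLib.hom_ext_pair (pB J j).toRingHom (pA J j).toRingHom
      (fun z a b => pairs_ext (by rw [map_zero]; exact a) (by rw [map_zero]; exact b))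
      (QuillenLib.pinch_surjective _ _ Ideal.Quotient.mk_surjective) _ _ ?_ ?_
    · rw [← Category.assoc]
      erw [hB]
      exact (Over.w x).trans (Over.w (spMap (pB J j))).symm
    · rw [← Category.assoc]
      erw [hA]
      exact (Over.w w).trans (Over.w (spMap (pA J j))).symm
  exact ⟨Over.homMk h hw, Over.OverMorphism.ext hB, Over.OverMorphism.ext hA⟩

variable [GrpObj G]

/-- `y` is the push forward of the point `x` along `l`. -/
def IsPush {J : Ideal R} (hJ : J ^ 2 = ⊥) (j : A₀ →ₐ[R] B) (l : B →ₗ[R] A₀) (hl : ∀ x y, l (x * j y) = l x * y)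
    (hl1 : l 1 = 1) (x : sp R B ⟶ G) (w : sp R A₀ ⟶ G) (y : sp R A₀ ⟶ G) : Prop :=
  ∃ h : sp R (Pairs J j) ⟶ G, spMap (pB J j) ≫ h = x ∧ spMap (pA J j) ≫ h = w ∧ spMap (hat hJ l hl hl1) ≫ h = y

variable {J : Ideal R} {hJ : J ^ 2 = ⊥} {j : A₀ →ₐ[R] B} {l : B →ₗ[R] A₀} {hl : ∀ x y, l (x * j y) = l x * y}
  {hl1 : l 1 = 1} {x x' : sp R B ⟶ G} {w w' y y' : sp R A₀ ⟶ G}

theorem IsPush.eq (h : IsPush hJ j l hl hl1 x w y) (h' : IsPush hJ j l hl hl1 x w y') : y = y' := by
  obtain ⟨a, a1, a2, a3⟩ := h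
  obtain ⟨b, b1, b2, b3⟩ := h'
  rw [← a3, ← b3, pairs_hom_ext a b (a1.trans b1.symm) (a2.trans b2.symm)]

theorem IsPush.mul (h : IsPush hJ j l hl hl1 x w y) (h' : IsPush hJ j l hl hl1 x' w' y') :
    IsPush hJ j l hl hl1 (x * x') (w * w') (y * y') := by
  obtain ⟨a, a1, a2, a3⟩ := h
  obtain ⟨b, b1, b2, b3⟩ := h'
  exact ⟨a * b, by rw [MonObj.comp_mul, a1, b1], by rw [MonObj.comp_mul, a2, b2], by rw [MonObj.comp_mul, a3, b3]⟩

theorem IsPush.inv (h : IsPush hJ j l hl hl1 x w y) : IsPush hJ j l hl hl1 x⁻¹ w⁻¹ y⁻¹ := by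
  obtain ⟨a, a1, a2, a3⟩ := h
  exact ⟨a⁻¹, by rw [GrpObj.comp_inv, a1], by rw [GrpObj.comp_inv, a2], by rw [GrpObj.comp_inv, a3]⟩

/-- Points coming from `A₀` push to themselves. -/
theorem isPush_self (w : sp R A₀ ⟶ G) : IsPush hJ j l hl hl1 (spMap j ≫ w) w w := by
  let d : A₀ →ₐ[R] Pairs J j := pairsLift j (AlgHom.id R A₀) fun z => by simp
  refine ⟨spMap d ≫ w, ?_, ?_, ?_⟩
  all_goals rw [← Category.assoc, spMap_comp]
  · rfl
  · rw [show (pA J j).comp d = AlgHom.id R A₀ from rfl, spMap_id, Category.id_comp]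
  · rw [show (hat hJ l hl hl1).comp d = AlgHom.id R A₀ from AlgHom.ext fun z => by
      show l (j z) = z
      rw [← _root_.one_mul (j z), hl, hl1, _root_.one_mul], spMap_id, Category.id_comp]

theorem redHom_comp (J : Ideal R) {P Q : Type u} [CommRing P] [Algebra R P] [CommRing Q] [Algebra R Q]
    (f : P →ₐ[R] Q) : ∃ g : Ared J P →ₐ[R] Ared J Q, g.comp (redHom J P) = (redHom J Q).comp f := by
  refine ⟨Ideal.Quotient.liftₐ _ ((redHom J Q).comp f) fun a ha => ?_, Ideal.Quotient.liftₐ_comp _ _ _⟩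
  refine Ideal.Quotient.eq_zero_iff_mem.mpr ?_
  have h1 : a ∈ (J • ⊤ : Submodule R P) := by rw [Ideal.smul_top_eq_map]; exact ha
  have h2 := MultTypeLib.map_smul_top f.toLinearMap h1
  rw [Ideal.smul_top_eq_map] at h2
  exact h2

/-- The second component does not matter. -/
theorem isPush_one_left (hl' : ∀ z, l (j z) = z) (hw : spMap (redHom J A₀) ≫ w = 1) :
    IsPush hJ j l hl hl1 1 w 1 := by
  let idA := AlgHom.id R A₀
  obtain ⟨q, q1, q2⟩ := exists_pairs_hom (j := idA) (1 : sp R A₀ ⟶ G) w (by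
    rw [spMap_id, Category.id_comp, hw, MonObj.comp_one])
  let s : Pairs J idA →ₐ[R] Pairs J j := pairsLift (j.comp (pB J idA)) (pA J idA) fun z => by
    have h1 : pB J idA z - pA J idA z ∈ (J • ⊤ : Submodule R A₀) := by
      rw [Ideal.smul_top_eq_map]; exact pairs_sub_mem z
    have h2 := MultTypeLib.map_smul_top j.toLinearMap h1
    rw [Ideal.smul_top_eq_map] at h2
    simpa [map_sub] using h2
  refine ⟨spMap s ≫ q, ?_, ?_, ?_⟩
  all_goals rw [← Category.assoc, spMap_comp]
  · rw [show (pB J j).comp s = j.comp (pB J idA) from rfl, ← spMap_comp, Category.assoc, q1, MonObj.comp_one]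
  · exact q2
  · rw [show (hat hJ l hl hl1).comp s = pB J idA from AlgHom.ext fun z => hl' _, q1]

/-- The push forward is congruent to the second component. -/
theorem IsPush.red_eq (h : IsPush hJ j l hl hl1 x w y) : spMap (redHom J A₀) ≫ y = spMap (redHom J A₀) ≫ w := by
  obtain ⟨a, a1, a2, a3⟩ := h
  rw [← a2, ← a3, ← Category.assoc, ← Category.assoc, spMap_comp, spMap_comp]
  congr 2
  refine AlgHom.ext fun z => Ideal.Quotient.eq.mpr ?_
  show l (pB J j z) - pA J j z ∈ _
  have h1 : pB J j z - j (pA J j z) ∈ (J • ⊤ : Submodule R B) := by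
    rw [Ideal.smul_top_eq_map]; exact pairs_sub_mem z
  have h2 := MultTypeLib.map_smul_top l h1
  rw [Ideal.smul_top_eq_map, map_sub, show l (j (pA J j z)) = pA J j z by
    rw [← _root_.one_mul (j _), hl, hl1, _root_.one_mul]] at h2
  exact h2

end Pairs

end Groth.Agent.MultTransp18
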