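import Groth.Agent.MultTransp18.InfSub
import Groth.Prelude.Def_SGA3x

/-!
# Subgroups of multiplicative type with the same reduction are conjugate
-/

universe u

open CategoryTheory CategoryTheory.Limits MonoidalCategory CartesianMonoidalCategory MonObj AlgebraicGeometry
open Groth.Agent.GrpSchLib.AffineHopf Groth.Agent.DSPtsLib

set_option backward.isDefEq.respectTransparency false
set_option synthInstance.maxHeartbeats 400000
set_option linter.style.haveILetI false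
set_option maxHeartbeats 1000000

namespace Groth.Agent.MultTransp18

variable {R : Type u} [CommRing R] {H H' G : Over (Spec (CommRingCat.of R))} [GrpObj H] [GrpObj H'] [GrpObj G]

/-- Square zero ideals: subgroups of multiplicative type with the same reduction are conjugate. -/
theorem exists_subgroup_conj_sq {J : Ideal R} (hJ : J ^ 2 = ⊥) (hH : LocDiag H) (hH' : LocDiag H') (i : H ⟶ G)
    [IsMonHom i] [Mono i] (i' : H' ⟶ G) [IsMonHom i'] [Mono i'] (ψ₀ : Red.bc (qMap J) H ≅ Red.bc (qMap J) H')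
    (hψ₀ : ψ₀.hom ≫ (Over.pullback (qMap J)).map i' = (Over.pullback (qMap J)).map i) :
    ∃ g : 𝟙_ (Over (Spec (CommRingCat.of R))) ⟶ G, toUnit (red J) ≫ g = 1 ∧ SGA3x.ConjBy i i' g := by
  obtain ⟨ψ, hψm, hψ⟩ := exists_iso_lift ⟨2, hJ⟩ hH hH' i i' ψ₀ hψ₀
  haveI := hψm
  obtain ⟨g, hg, hgv⟩ := exists_conj_sq hJ hH i (ψ.hom ≫ i') hψ
  refine ⟨g, hg, ψ, ?_⟩
  have := hgv H (𝟙 H)
  simp only [Category.id_comp] at this
  exact this.symm

/-- Nilpotent ideals, smooth group: conjugations of subgroups of multiplicative type lift. -/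
theorem exists_subgroup_conj_lift {J : Ideal R} (hJ : IsNilpotent J) (hH : LocDiag H) (hH' : LocDiag H')
    (hG : Smooth G.hom) (i : H ⟶ G) [IsMonHom i] [Mono i] (i' : H' ⟶ G) [IsMonHom i'] [Mono i'] (g₀ : red J ⟶ G)
    (h0 : ∀ (X : Over (Spec (CommRingCat.of R))) (p : X ⟶ red J),
      (∀ h : X ⟶ H, ∃ h' : X ⟶ H', (p ≫ g₀) * (h ≫ i) * (p ≫ g₀)⁻¹ = h' ≫ i') ∧
      (∀ h' : X ⟶ H', ∃ h : X ⟶ H, (p ≫ g₀)⁻¹ * (h' ≫ i') * (p ≫ g₀) = h ≫ i)) :
    ∃ g : 𝟙_ (Over (Spec (CommRingCat.of R))) ⟶ G, toUnit (red J) ≫ g = g₀ ∧ SGA3x.ConjBy i i' g := by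
  obtain ⟨g₁, hg₁⟩ := exists_point_lift hJ hG g₀
  haveI := isMonHom_conjMap g₁ i
  haveI := mono_conjMap g₁ i
  let Y : Over (Spec (CommRingCat.of (R ⧸ J))) := Red.bc (qMap J) H
  let Y' : Over (Spec (CommRingCat.of (R ⧸ J))) := Red.bc (qMap J) H'
  let p : (Over.map (qMap J)).obj Y ⟶ red J := Over.homMk Y.hom rfl
  let p' : (Over.map (qMap J)).obj Y' ⟶ red J := Over.homMk Y'.hom rfl
  obtain ⟨h', hh'⟩ := (h0 _ p).1 (theta (qMap J) (𝟙 Y))
  obtain ⟨h, hh⟩ := (h0 _ p').2 (theta (qMap J) (𝟙 Y'))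
  have e1 : thetaInv (qMap J) h' ≫ (Over.pullback (qMap J)).map i' =
      (Over.pullback (qMap J)).map (conjMap g₁ i) := (theta_bijective (qMap J)).injective (by
    rw [← Category.id_comp ((Over.pullback (qMap J)).map (conjMap g₁ i)), theta_comp_map, theta_comp_map,
      theta_thetaInv, ← hh', comp_conjMap, ← comp_toUnit_assoc p g₁, hg₁])
  have e2 : thetaInv (qMap J) h ≫ (Over.pullback (qMap J)).map (conjMap g₁ i) =
      (Over.pullback (qMap J)).map i' := (theta_bijective (qMap J)).injective (by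
    rw [← Category.id_comp ((Over.pullback (qMap J)).map i'), theta_comp_map, theta_comp_map,
      theta_thetaInv, comp_conjMap, ← hh, ← comp_toUnit_assoc p' g₁, hg₁]
    group
    rfl)
  let ψ₀ : Red.bc (qMap J) H ≅ Red.bc (qMap J) H' :=
    ⟨thetaInv (qMap J) h', thetaInv (qMap J) h, by
      rw [← cancel_mono ((Over.pullback (qMap J)).map (conjMap g₁ i)), Category.assoc, e2, e1, Category.id_comp], by
      rw [← cancel_mono ((Over.pullback (qMap J)).map i'), Category.assoc, e1, e2, Category.id_comp]⟩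
  obtain ⟨ψ, hψm, hψ⟩ := exists_iso_lift hJ hH hH' (conjMap g₁ i) i' ψ₀ e1
  haveI := hψm
  obtain ⟨n, hn⟩ := hJ
  obtain ⟨g, hg, hgv⟩ := exists_conj_nil n J hn hH hG (conjMap g₁ i) (ψ.hom ≫ i') hψ
  refine ⟨g * g₁, by rw [MonObj.comp_mul, hg, hg₁, _root_.one_mul], ψ, ?_⟩
  have := hgv H (𝟙 H)
  simp only [Category.id_comp] at this
  rw [this, conjMap, MonObj.comp_mul]
  group

end Groth.Agent.MultTransp18
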