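import Groth.Agent.MultTransp18.InfHomScheme
import Groth.Agent.MultTransp18.NilImm
import Groth.Agent.MultTypeLib.QuasiIso
import Groth.Agent.MultTypeLib.NilLift
import Groth.Agent.MultTypeLib.FiniteMult
import Mathlib.AlgebraicGeometry.Morphisms.Flat

/-!
# Subgroups of multiplicative type lift along nilpotent ideals
-/

universe u

open CategoryTheory CategoryTheory.Limits MonoidalCategory CartesianMonoidalCategory MonObj AlgebraicGeometry
open TensorProduct
open Groth.Agent.GrpSchLib.AffineHopf Groth.Agent.DSPtsLib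

set_option backward.isDefEq.respectTransparency false
set_option linter.style.haveILetI false
set_option synthInstance.maxHeartbeats 400000
set_option maxHeartbeats 1000000

namespace Groth.Agent.MultTransp18

variable {R : Type u} [CommRing R]

theorem isMultType_of_quasiIsotrivial {A : Type u} [CommRing A] [HopfAlgebra R A]
    (h : SGA3b.IsQuasiIsotrivial R A) : SGA3b.IsMultType R A := by
  obtain ⟨s, hs, hs'⟩ := h
  refine ⟨s, hs, fun f hf => ?_⟩
  obtain ⟨R', i1, i2, -, h1, h2⟩ := hs' f hf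
  exact ⟨R', i1, i2, h1, h2⟩

theorem flat_of_isMultType {A : Type u} [CommRing A] [HopfAlgebra R A] (hA : SGA3b.IsMultType R A) :
    Module.Flat R A := by
  classical
  obtain ⟨c⟩ := MultTypeLib.exists_cover hA
  have hfree : ∀ i, Module.Free (c.split i).S ((c.split i).S ⊗[R] A) := fun i => (c.split i).free
  refine Module.Flat.iff_lTensor_preserves_injective_linearMap.mpr fun N N' _ _ _ _ g hg => ?_
  refine (injective_iff_map_eq_zero _).mpr fun x hx => c.module_ext x fun i => ?_
  let S := (c.split i).S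
  have : Module.Flat R (S ⊗[R] A) := Module.Flat.trans R S (S ⊗[R] A)
  have hinj := Module.Flat.lTensor_preserves_injective_linearMap (M := S ⊗[R] A) g hg
  let e₁ := TensorProduct.assoc R S A N
  let e₂ := TensorProduct.assoc R S A N'
  have hcomm : ∀ z, e₂ (LinearMap.lTensor (S ⊗[R] A) g z) = LinearMap.lTensor S (LinearMap.lTensor A g) (e₁ z) := by
    intro z
    induction z using TensorProduct.induction_on with
    | zero => simp
    | add a b ha hb => simp only [map_add, ha, hb]
    | tmul y m =>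
      induction y using TensorProduct.induction_on with
      | zero => simp
      | add a b ha hb => simp only [TensorProduct.add_tmul, map_add, ha, hb]
      | tmul s a => simp [e₁, e₂]
  apply e₁.symm.injective
  rw [map_zero]
  apply hinj
  rw [map_zero]
  apply e₂.injective
  rw [map_zero, hcomm, LinearEquiv.apply_symm_apply, LinearMap.lTensor_tmul, hx, TensorProduct.tmul_zero]

/-- A map which is the lift of a homomorphism of the reductions is multiplicative modulo the ideal. -/
theorem homMod_of_theta {L : Ideal R} {H G : Over (Spec (CommRingCat.of R))} [GrpObj H] [GrpObj G] (x1 : H ⟶ G)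
    (x3 : Red.bc (qMap L) H ⟶ Red.bc (qMap L) G) [IsMonHom x3]
    (hC : ∀ (Y : Over (Spec (CommRingCat.of (R ⧸ L)))) (a : Y ⟶ Red.bc (qMap L) H),
      theta (qMap L) a ≫ x1 = theta (qMap L) (a ≫ x3)) : HomMod L x1 := fun X p a b => by
  let Y : Over (Spec (CommRingCat.of (R ⧸ L))) := Over.mk p.left
  let e1 : (Over.map (qMap L)).obj Y ⟶ X := Over.homMk (𝟙 _) ((Category.id_comp _).trans (Over.w p).symm)
  let e2 : X ⟶ (Over.map (qMap L)).obj Y := Over.homMk (𝟙 _) ((Category.id_comp _).trans (Over.w p))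
  have h12 : e2 ≫ e1 = 𝟙 _ := Over.OverMorphism.ext (Category.id_comp _)
  have key := congrArg (fun m => e2 ≫ theta (qMap L) m)
    (MonObj.mul_comp (thetaInv (qMap L) (e1 ≫ a)) (thetaInv (qMap L) (e1 ≫ b)) x3)
  simp only [theta_mul, ← hC, theta_thetaInv, MonObj.comp_mul, ← Category.assoc, h12, Category.id_comp] at key
  exact key

/-- A homomorphism from the reduction of a group of multiplicative type to a smooth group lifts. -/
theorem exists_hom_lift_smooth {J : Ideal R} (hJ : IsNilpotent J) {H G : Over (Spec (CommRingCat.of R))}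
    [GrpObj H] [GrpObj G] (hH : MTHopf H) (hG : Smooth G.hom) (x3 : Red.bc (qMap J) H ⟶ Red.bc (qMap J) G)
    [IsMonHom x3] : ∃ x : H ⟶ G, IsMonHom x ∧ (Over.pullback (qMap J)).map x = x3 := by
  haveI : IsAffine H.left := hH.isAffine
  obtain ⟨x1, hC⟩ := exists_map_lift hJ hG x3
  obtain ⟨n, hn⟩ := hJ
  obtain ⟨x, hx, hxx⟩ := exists_hom_nil n J hn hH hG x1 (homMod_of_theta x1 x3 hC)
  refine ⟨x, hx, (theta_bijective (qMap J)).injective ?_⟩
  have h1 := hxx _ (Over.homMk (U := (Over.map (qMap J)).obj (Red.bc (qMap J) H)) (V := red J)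
    (Red.bc (qMap J) H).hom rfl) (theta (qMap J) (𝟙 _))
  rw [hC, Category.id_comp] at h1
  rw [h1, ← theta_comp_map]
  erw [Category.id_comp]

set_option maxHeartbeats 2000000 in
/-- Subgroups of multiplicative type of a smooth group lift to flat subgroups. -/
theorem exists_subgroup_lift {J : Ideal R} (hJ : IsNilpotent J) (G : Over (Spec (CommRingCat.of R))) [GrpObj G]
    (hG : Smooth G.hom) (H₀ : Over (Spec (CommRingCat.of (R ⧸ J)))) [GrpObj H₀] (hH₀ : LocDiag H₀)
    (j₀ : H₀ ⟶ Red.bc (qMap J) G) [IsMonHom j₀] [IsImmersion j₀.left] :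
    ∃ (H : Over (Spec (CommRingCat.of R))) (_ : GrpObj H) (j : H ⟶ G), IsMonHom j ∧ IsImmersion j.left ∧
      Flat H.hom ∧ ∃ φ : Red.bc (qMap J) H ≅ H₀, φ.hom ≫ j₀ = (Over.pullback (qMap J)).map j := by
  haveI : IsAffineHom H₀.hom := isAffineHom_of_locDiag hH₀
  haveI : IsAffine H₀.left := isAffine_of_isAffineHom H₀.hom
  obtain ⟨A₀, _, _, ⟨e0⟩⟩ := exists_hopf H₀
  haveI := hG
  haveI : IsIso e0.hom.hom.hom.left :=
    ⟨e0.inv.hom.hom.left, congrArg (fun h => h.hom.hom.left) e0.hom_inv_id,
      congrArg (fun h => h.hom.hom.left) e0.inv_hom_id⟩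
  haveI : LocallyOfFiniteType (Red.bc (qMap J) G).hom :=
    MorphismProperty.pullback_snd (P := @LocallyOfFiniteType) _ _ inferInstance
  haveI : LocallyOfFiniteType H₀.hom := by rw [← Over.w j₀]; infer_instance
  haveI : LocallyOfFiniteType (sp (R ⧸ J) A₀).hom := by rw [← Over.w e0.hom.hom.hom]; infer_instance
  have hft : Algebra.FiniteType (R ⧸ J) A₀ := RingHom.finiteType_algebraMap.mp
    ((HasRingHomProperty.Spec_iff (P := @LocallyOfFiniteType)
      (φ := CommRingCat.ofHom (algebraMap (R ⧸ J) A₀))).mp ‹_›)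
  have hq0 := MultTypeLib.isQuasiIsotrivial_of_isMultType hft (isMultType_of_locDiag e0 hH₀)
  have hnil : ∀ x ∈ J, IsNilpotent x := by
    obtain ⟨n, hn⟩ := hJ
    exact fun x hx => ⟨n, by have h := Ideal.pow_mem_pow hx n; rw [hn] at h; exact Ideal.mem_bot.mp h⟩
  obtain ⟨A, _, _, hA, ⟨b⟩⟩ := MultTypeLib.exists_quasiIsotrivial_lift J hnil A₀ hq0
  obtain ⟨e, -⟩ := exists_bc_sp_iso J A
  let i0 : Grp.mk (Red.bc (qMap J) (sp R A)) ≅ Grp.mk H₀ := e ≪≫ spIso b.symm ≪≫ e0
  haveI : IsMonHom i0.hom.hom.hom := i0.hom.hom.isMonHom_hom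
  have hm := isMultType_of_quasiIsotrivial hA
  obtain ⟨x, hx, hxe⟩ := exists_hom_lift_smooth hJ (H := sp R A)
    ⟨A, inferInstance, inferInstance, hm, ⟨Iso.refl _⟩⟩ hG (i0.hom.hom.hom ≫ j₀)
  haveI : IsIso i0.hom.hom.hom.left :=
    ⟨i0.inv.hom.hom.left, congrArg (fun h => h.hom.hom.left) i0.hom_inv_id,
      congrArg (fun h => h.hom.hom.left) i0.inv_hom_id⟩
  haveI : IsImmersion ((Over.pullback (qMap J)).map x).left := by
    rw [hxe, Over.comp_left]
    infer_instance
  refine ⟨sp R A, inferInstance, x, hx, isImmersion_of_mod_nil hJ x, ?_, (Grp.forget _).mapIso i0, ?_⟩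
  · haveI := flat_of_isMultType hm
    exact (HasRingHomProperty.Spec_iff (P := @Flat) (φ := CommRingCat.ofHom (algebraMap R A))).mpr
      (RingHom.flat_algebraMap_iff.mpr inferInstance)
  · rw [hxe]
    rfl

end Groth.Agent.MultTransp18
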