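import Groth.Agent.MultTransp18.SubgroupLift
import Groth.Agent.MultTransp18.InfSub

/-!
# Transporters of groups of multiplicative type into subgroups lift along nilpotent ideals
-/

universe u

open CategoryTheory CategoryTheory.Limits MonoidalCategory CartesianMonoidalCategory MonObj AlgebraicGeometry
open Groth.Agent.GrpSchLib.AffineHopf Groth.Agent.DSPtsLib

set_option backward.isDefEq.respectTransparency false
set_option linter.style.haveILetI false
set_option synthInstance.maxHeartbeats 400000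
set_option maxHeartbeats 1000000

namespace Groth.Agent.MultTransp18

variable {R : Type u} [CommRing R] {H K G : Over (Spec (CommRingCat.of R))} [GrpObj H] [GrpObj K] [GrpObj G]

/-- Transporters into smooth or multiplicative type subgroups lift. -/
theorem exists_transporter_lift {J : Ideal R} (hJ : IsNilpotent J) (hG : Smooth G.hom) (k : K ⟶ G) [IsMonHom k]
    [Mono k] (hK : Smooth K.hom ∨ LocDiag K) (hH : LocDiag H) (u : H ⟶ G) [IsMonHom u] (g₀ : red J ⟶ G)
    (h0 : ∀ (X : Over (Spec (CommRingCat.of R))) (p : X ⟶ red J) (h : X ⟶ H),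
      ∃ x : X ⟶ K, (p ≫ g₀) * (h ≫ u) * (p ≫ g₀)⁻¹ = x ≫ k) :
    ∃ g : 𝟙_ (Over (Spec (CommRingCat.of R))) ⟶ G, toUnit (red J) ≫ g = g₀ ∧
      ∀ (X : Over (Spec (CommRingCat.of R))) (h : X ⟶ H),
        ∃ x : X ⟶ K, (toUnit X ≫ g) * (h ≫ u) * (toUnit X ≫ g)⁻¹ = x ≫ k := by
  obtain ⟨g₁, hg₁⟩ := exists_point_lift hJ hG g₀
  haveI := isMonHom_conjMap g₁ u
  let Y : Over (Spec (CommRingCat.of (R ⧸ J))) := Red.bc (qMap J) H
  let p : (Over.map (qMap J)).obj Y ⟶ red J := Over.homMk Y.hom rfl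
  obtain ⟨h', hh'⟩ := h0 _ p (theta (qMap J) (𝟙 Y))
  have e1 : thetaInv (qMap J) h' ≫ (Over.pullback (qMap J)).map k =
      (Over.pullback (qMap J)).map (conjMap g₁ u) := (theta_bijective (qMap J)).injective (by
    rw [← Category.id_comp ((Over.pullback (qMap J)).map (conjMap g₁ u)), theta_comp_map, theta_comp_map,
      theta_thetaInv, ← hh', comp_conjMap, ← comp_toUnit_assoc p g₁, hg₁])
  haveI : Mono ((Over.pullback (qMap J)).map k) := inferInstance
  haveI : IsMonHom (thetaInv (qMap J) h') :=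
    exists_iso_lift.isMonHom_of_comp _ ((Over.pullback (qMap J)).map k) (e1 ▸ inferInstance)
  obtain ⟨w, hw, hwk⟩ : ∃ w : H ⟶ K, IsMonHom w ∧ (Over.pullback (qMap J)).map w = thetaInv (qMap J) h' := by
    rcases hK with hK | hK
    · exact exists_hom_lift_smooth hJ (mtHopf_of_locDiag hH) hK _
    · exact exists_hom_lift hJ H K hH hK _
  haveI := hw
  have hagree : AgreeMod J (conjMap g₁ u) (w ≫ k) := fun X q x => by
    let Y' : Over (Spec (CommRingCat.of (R ⧸ J))) := Over.mk q.left
    let a1 : (Over.map (qMap J)).obj Y' ⟶ X := Over.homMk (𝟙 _) ((Category.id_comp _).trans (Over.w q).symm)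
    let a2 : X ⟶ (Over.map (qMap J)).obj Y' := Over.homMk (𝟙 _) ((Category.id_comp _).trans (Over.w q))
    have h12 : a2 ≫ a1 = 𝟙 _ := Over.OverMorphism.ext (Category.id_comp _)
    have := congrArg (fun m => a2 ≫ theta (qMap J) (thetaInv (qMap J) (a1 ≫ x) ≫ m)) e1
    rw [← hwk, ← Functor.map_comp] at this
    simp only [theta_comp_map, theta_thetaInv, Category.assoc, reassoc_of% h12] at this
    exact this.symm
  obtain ⟨n, hn⟩ := hJ
  obtain ⟨g, hg, hgv⟩ := exists_conj_nil n J hn hH hG (conjMap g₁ u) (w ≫ k) hagree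
  refine ⟨g * g₁, by rw [MonObj.comp_mul, hg, hg₁, _root_.one_mul], fun X h => ⟨h ≫ w, ?_⟩⟩
  rw [Category.assoc, hgv, comp_conjMap, MonObj.comp_mul]
  group

end Groth.Agent.MultTransp18
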